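import Cfsg.Agent.Omega.EDel.ThmU

/-!
# THEOREM U with weak UNI (helper165 #26684): (1) and (2)

`Y j` are the full groups `C_G(z_l : l ≠ j)`, `Y' j ≤ Y j` the groups `⟨D, N_{Y j}(W_j Z_J)⟩`; only `Y' j` is recovered from a
normal subgroup `K` of `Y j` (`gen`), and only the `Y' j` are used in the relation `Y' j ≤ N(N i N j)`.

* `FrW` : the frame;  `SyW` : symmetries;  `MM` : `M_{lm} = ⟨(N_l N_m)^⟨Y'_l, Y'_m⟩⟩`;
* `FrW.exists_A` : some `A ∈ AA(O)` centralises every `N i` and moves some `M_{lm}`;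
* `FrW.no_swap`, `FrW.nB`, `FrW.main`.
-/

set_option autoImplicit false
set_option linter.unusedSectionVars false

namespace Cfsg.Agent.Omega.EDel.BxW

open Subgroup Cfsg Cfsg.Agent.ZN Cfsg.Agent.ZN.ChoiceBase
open Cfsg.Agent.Omega.NO3S.EThree
open Cfsg.Agent.Omega.NO3S.EThree.ExactA (eab_mono eab_sup eab_iff)
open Cfsg.Agent.Omega.EK3.Rank (NoOn mem_inf_of_mem_AA jj_inf_le offd_of_mem exch)
open Cfsg.Agent.Omega.EK3.Lever (Dt)
open Cfsg.Agent.Omega.NoFF.Basic (comm_symm comm_mono)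
open Cfsg.Agent.Omega.ESym.CoreS
open Cfsg.Agent.Omega.EDel.ThmU (sy_one sy_mul ne_bot_of_mem_AA sylow_of_norm)
open scoped commutatorElement

universe u

variable {G : Type u} [Group G]

/-- **The frame of THEOREM U with weak UNI.** -/
structure FrW {ι : Type*} (O D ZJ : Subgroup G) (Y Y' N : ι → Subgroup G) : Prop where
  two : IsPGroup 2 O
  OY : ∀ i, O ≤ Y i
  OZ : O ≤ centralizer (ZJ : Set G)
  DY : ∀ i, D ≤ Y' i
  YY : ∀ i, Y' i ≤ Y i
  three : ∀ i j : ι, ∃ l, l ≠ i ∧ l ≠ j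
  eab : ∀ I : Set ι, I ≠ Set.univ → IsElementaryAbelian 2 (EI ZJ Y I : Subgroup G) ∧ EI ZJ Y I ≤ O
  NE : ∀ i, N i ≤ EI ZJ Y {i}
  YN : ∀ i, Y i ≤ normalizer (N i : Set G)
  YQ : ∀ i, Y i ≤ normalizer ((O ⊓ centralizer (N i : Set G) : Subgroup G) : Set G)
  no : ∀ i, NoOn O (N i)
  gen : ∀ j, ∀ K : Subgroup G, K ≤ Y j → Y j ≤ normalizer (K : Set G) → ¬ K ⊓ O ≤ centralizer (N j : Set G) →
    Y' j ≤ K ⊔ D

/-- a symmetry -/
structure SyW {ι : Type*} (O : Subgroup G) (Y Y' N : ι → Subgroup G) (g : G) (σ : Equiv.Perm ι) : Prop where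
  s : Sy O Y N g σ
  s' : Sy O Y' N g σ

/-- `⟨(∏_{i ∈ I} N i)^(Y' i : i ∈ I)⟩` -/
def MM {ι : Type*} (Y' N : ι → Subgroup G) (I : Set ι) : Subgroup G :=
  ⨆ y : (⨆ i : I, Y' i : Subgroup G), cj (y : G) (⨆ i : I, N i)

section mm

variable {ι : Type*} {Y' N : ι → Subgroup G}

theorem N_le_MM {I : Set ι} {i : ι} (hi : i ∈ I) : N i ≤ MM Y' N I := by
  have h1 : cj (1 : G) (⨆ i : I, N i) ≤ MM Y' N I :=
    le_iSup (fun y : (⨆ i : I, Y' i : Subgroup G) => cj (y : G) (⨆ i : I, N i)) 1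
  rw [cj_one] at h1
  exact (le_iSup (fun i : I => N i) ⟨i, hi⟩).trans h1

theorem MM_norm [Finite G] {I : Set ι} {i : ι} (hi : i ∈ I) : Y' i ≤ normalizer (MM Y' N I : Set G) := by
  have hle : Y' i ≤ (⨆ i : I, Y' i : Subgroup G) := le_iSup (fun i : I => Y' i) ⟨i, hi⟩
  have key : ∀ y ∈ Y' i, cj y (MM Y' N I) ≤ MM Y' N I := by
    intro y hy
    unfold MM
    rw [cj, Subgroup.map_iSup]
    refine iSup_le fun x => ?_
    have e : Subgroup.map (MulAut.conj y).toMonoidHom (cj (x : G) (⨆ i : I, N i)) = cj (y * x : G) (⨆ i : I, N i) :=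
      cj_cj y x _
    rw [e]
    exact le_iSup (fun x : (⨆ i : I, Y' i : Subgroup G) => cj (x : G) (⨆ i : I, N i)) ⟨y * x, mul_mem (hle hy) x.2⟩
  intro y hy
  exact mem_norm_of_le (key y hy)

theorem MM_le {I : Set ι} {M : Subgroup G} (h1 : ∀ i ∈ I, N i ≤ M) (h2 : ∀ i ∈ I, Y' i ≤ normalizer (M : Set G)) :
    MM Y' N I ≤ M := by
  have h3 : (⨆ i : I, Y' i : Subgroup G) ≤ normalizer (M : Set G) := iSup_le fun i => h2 i.1 i.2
  refine iSup_le fun y => ?_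
  have h4 := cj_mono (y : G) (iSup_le fun i : I => h1 i.1 i.2)
  rwa [cj_eq_of_mem_normalizer (h3 y.2)] at h4

end mm

section sy

variable {ι : Type*} {O : Subgroup G} {Y Y' N : ι → Subgroup G}

theorem syW_one : SyW O Y Y' N 1 1 := ⟨sy_one, sy_one⟩

theorem SyW.mul {g g' : G} {σ σ' : Equiv.Perm ι} (h : SyW O Y Y' N g σ) (h' : SyW O Y Y' N g' σ') :
    SyW O Y Y' N (g * g') (σ * σ') := ⟨sy_mul h.s h'.s, sy_mul h.s' h'.s'⟩

theorem SyW.inv {g : G} {σ : Equiv.Perm ι} (h : SyW O Y Y' N g σ) : SyW O Y Y' N g⁻¹ σ⁻¹ := ⟨h.s.inv, h.s'.inv⟩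

end sy

section core

variable [Finite G] {ι : Type*} {O D ZJ : Subgroup G} {Y Y' N : ι → Subgroup G} (h : FrW O D ZJ Y Y' N)
include h

theorem FrW.N_le_EI {I : Set ι} {i : ι} (hi : i ∈ I) : N i ≤ EI ZJ Y I :=
  (h.NE i).trans (EI_mono (Set.singleton_subset_iff.2 hi))

theorem FrW.MM_le_EI (I : Set ι) : MM Y' N I ≤ EI ZJ Y I :=
  MM_le (fun _ hi => h.N_le_EI hi) fun i hi => (h.YY i).trans (EI_norm hi)

theorem FrW.pair_ne_univ (i j : ι) : ({i, j} : Set ι) ≠ Set.univ := by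
  obtain ⟨l, hl, hl'⟩ := h.three i j
  intro e
  have : l ∈ ({i, j} : Set ι) := e ▸ Set.mem_univ l
  rcases this with h1 | h1
  · exact hl h1
  · exact hl' h1

theorem FrW.ne_univ (i : ι) : ({i} : Set ι) ≠ Set.univ := by
  obtain ⟨l, hl, -⟩ := h.three i i
  intro e
  have : l ∈ ({i} : Set ι) := e ▸ Set.mem_univ l
  exact hl this

theorem FrW.N_eab (i : ι) : IsElementaryAbelian 2 (N i : Subgroup G) :=
  eab_mono (h.eab _ (h.ne_univ i)).1 (h.NE i)

theorem FrW.N_le_O (i : ι) : N i ≤ O := (h.NE i).trans (h.eab _ (h.ne_univ i)).2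

theorem FrW.NN (i j : ι) : N i ≤ centralizer (N j : Set G) := by
  have h1 := (eab_iff.1 (h.eab _ (h.pair_ne_univ i j)).1).1
  exact (h.N_le_EI (Or.inl rfl)).trans (h1.trans (centralizer_le (h.N_le_EI (Or.inr rfl))))

/-- if some `A ∈ AA(O)` moves `E_I`, `I` proper, then some `j ∈ I` has `Y' j ≤ N(N i N j)` for all `i ∈ I`. -/
theorem FrW.step {I : Set ι} (hI : I ≠ Set.univ) (hne : I.Nonempty) {A : Subgroup G} (hA : A ∈ AA O)
    (hAm : ¬ A ≤ centralizer (EI ZJ Y I : Set G)) :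
    ∃ j ∈ I, ∀ i ∈ I, Y' j ≤ normalizer ((N i ⊔ N j : Subgroup G) : Set G) := by
  obtain ⟨j0, hj0⟩ := hne
  obtain ⟨hE, hEO⟩ := h.eab I hI
  have hOE : O ≤ normalizer (EI ZJ Y I : Set G) := (h.OY j0).trans (EI_norm hj0)
  have hoff : Offd (EI ZJ Y I) A :=
    offd_of_mem hE hEO hA (hA.2.1.trans hOE) le_rfl hAm
  have hdt : Dt O (EI ZJ Y I) ZJ (fun i : I => Y i) (fun i : I => N i) := by
    refine ⟨(eab_iff.1 hE).1, fun i => h.OY i, fun i => EI_norm i.2, h.OZ, le_rfl, fun i => h.N_le_EI i.2,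
      fun i => h.YN i, fun i => h.YQ i, fun i F hF hFO => h.no i F hF hFO⟩
  obtain ⟨j, F, hFO, hFe, hFm, hF⟩ := hdt.lever hA.2.1 hA.1 hoff
  refine ⟨j, j.2, fun i hi => ?_⟩
  -- the normal closure of `F` in `Y j`
  let K : Subgroup G := ⨆ y : Y j, cj (y : G) F
  have hFY : F ≤ Y j := hFO.trans (h.OY j)
  have hFK : F ≤ K := by
    have := le_iSup (fun y : Y j => cj (y : G) F) 1
    simpa only [OneMemClass.coe_one, cj_one] using this
  have hKY : K ≤ Y j := iSup_le fun y => by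
    have := cj_mono (y : G) hFY
    rwa [cj_eq_of_mem_normalizer (Subgroup.le_normalizer y.2)] at this
  have hYK : Y j ≤ normalizer (K : Set G) := by
    intro y hy
    refine mem_norm_of_le ?_
    change cj y (⨆ x : Y j, cj (x : G) F) ≤ _
    rw [cj, Subgroup.map_iSup]
    refine iSup_le fun x => ?_
    have e : Subgroup.map (MulAut.conj y).toMonoidHom (cj (x : G) F) = cj (y * x : G) F := cj_cj y x F
    rw [e]
    exact le_iSup (fun x : Y j => cj (x : G) F) ⟨y * x, mul_mem hy x.2⟩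
  have hKm : ¬ K ⊓ O ≤ centralizer (N j : Set G) := fun hc => hFm ((le_inf hFK hFO).trans hc)
  have hKN : K ≤ normalizer ((N i ⊔ N j : Subgroup G) : Set G) := by
    refine iSup_le fun y => ?_
    intro x hx
    refine mem_norm_of_le ?_
    rw [cj, Subgroup.map_sup]
    have hxY : x ∈ Y j := hKY (le_iSup (fun y : Y j => cj (y : G) F) y hx)
    refine sup_le ?_ ?_
    · rintro _ ⟨n, hn, rfl⟩
      change x * n * x⁻¹ ∈ _
      -- `x = y f y⁻¹`
      obtain ⟨f, hf, e⟩ := hx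
      have e' : x = (y : G) * f * (y : G)⁻¹ := by rw [← e]; rfl
      have hnE : n ∈ EI ZJ Y I := h.N_le_EI hi hn
      have hn' : (y : G)⁻¹ * n * y ∈ EI ZJ Y I := by
        have := (mem_normalizer_iff.1 (EI_norm j.2 (inv_mem y.2)) n).1 hnE
        rwa [inv_inv] at this
      have h1 := hF _ hn' f hf
      have h2 : (y : G) * ⁅(y : G)⁻¹ * n * y, f⁆ * (y : G)⁻¹ ∈ N j :=
        (mem_normalizer_iff.1 (h.YN j y.2) _).1 h1
      have h3 : ⁅n, x⁆ = (y : G) * ⁅(y : G)⁻¹ * n * y, f⁆ * (y : G)⁻¹ := by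
        rw [e']
        simp only [commutatorElement_def]
        group
      have h4 : x * n * x⁻¹ = ⁅n, x⁆⁻¹ * n := by
        simp only [commutatorElement_def]
        group
      rw [h4]
      exact mul_mem (inv_mem (mem_sup_right (by rw [h3]; exact h2))) (mem_sup_left hn)
    · have h1 := cj_eq_of_mem_normalizer (h.YN j hxY)
      exact (le_of_eq h1).trans le_sup_right
  have hDN : D ≤ normalizer ((N i ⊔ N j : Subgroup G) : Set G) := by
    intro x hx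
    refine mem_norm_of_le ?_
    rw [cj, Subgroup.map_sup]
    exact sup_le_sup (cj_eq_of_mem_normalizer (h.YN i (h.YY i (h.DY i hx)))).le
      (cj_eq_of_mem_normalizer (h.YN j (h.YY j (h.DY j hx)))).le
  exact (h.gen j K hKY hYK hKm).trans (sup_le hKN hDN)

/-- `AA* ≠ ∅` -/
theorem FrW.star [Finite ι] : ∃ A ∈ AA O, ∀ i, A ≤ centralizer (N i : Set G) := by
  classical
  have key : ∀ s : Finset ι, ∃ A ∈ AA O, ∀ i ∈ s, A ≤ centralizer (N i : Set G) := by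
    intro s
    induction s using Finset.induction_on with
    | empty =>
      obtain ⟨A, hA⟩ := AA_nonempty O
      exact ⟨A, hA, by simp⟩
    | insert i s his ih =>
      obtain ⟨A, hA, hc⟩ := ih
      refine ⟨(A ⊓ centralizer (N i : Set G)) ⊔ N i, (exch (h.N_eab i) (h.N_le_O i) (h.no i) hA).2.2, ?_⟩
      intro j hj
      rcases Finset.mem_insert.1 hj with rfl | hj
      · exact sup_le inf_le_right (eab_iff.1 (h.N_eab _)).1
      · exact sup_le (inf_le_left.trans (hc j hj)) (h.NN i j)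
  cases nonempty_fintype ι
  obtain ⟨A, hA, hc⟩ := key Finset.univ
  exact ⟨A, hA, fun i => hc i (Finset.mem_univ i)⟩

/-- **THEOREM U (1), weak UNI.** -/
theorem FrW.exists_A [Finite ι] (hO : O ≠ ⊥)
    (nl : ∀ R : Subgroup G, R ≠ ⊥ → IsPGroup 2 R → ¬ ∀ j, Y' j ≤ normalizer (R : Set G)) :
    ∃ A ∈ AA O, (∀ i, A ≤ centralizer (N i : Set G)) ∧
      ∃ l m, l ≠ m ∧ ¬ A ≤ centralizer (MM Y' N {l, m} : Set G) := by
  classical
  by_contra hcon
  push Not at hcon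
  -- `AA*` is invariant under every `Y' l`
  have hinv : ∀ l, ∀ y ∈ Y' l, ∀ A ∈ AA O, (∀ i, A ≤ centralizer (N i : Set G)) →
      cj y A ∈ AA O ∧ ∀ i, cj y A ≤ centralizer (N i : Set G) := by
    intro l y hy A hA hc
    have hQ : A ≤ O ⊓ centralizer (N l : Set G) := le_inf hA.2.1 (hc l)
    have hQ' : cj y A ≤ O ⊓ centralizer (N l : Set G) := by
      have := cj_mono y hQ
      rwa [cj_eq_of_mem_normalizer (h.YQ l (h.YY l hy))] at this
    have hyA : cj y A ∈ AA O := by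
      rw [mem_AA_iff]
      refine ⟨(cj_mem_AA y hA).1, hQ'.trans inf_le_left, ?_⟩
      rw [card_cj, mm_eq hA]
    refine ⟨hyA, fun i => ?_⟩
    by_cases hi : i = l
    · rw [hi]; exact hQ'.trans inf_le_right
    · have h1 := hcon A hA hc i l hi
      have h2 : A ≤ centralizer (cj y⁻¹ (N i) : Set G) := by
        refine h1.trans (centralizer_le ?_)
        have h3 := cj_mono y⁻¹ (N_le_MM (Y' := Y') (N := N) (I := {i, l}) (i := i) (Or.inl rfl))
        have h4 : cj y⁻¹ (MM Y' N {i, l}) = MM Y' N {i, l} :=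
          cj_eq_of_mem_normalizer (MM_norm (I := {i, l}) (i := l) (Or.inr rfl) (inv_mem hy))
        rw [h4] at h3
        exact h3
      have h5 := cj_mono y h2
      rwa [← cj_centralizer, cj_cj_inv] at h5
  -- the join of `AA*`
  let J : Subgroup G := ⨆ A : {A : Subgroup G // A ∈ AA O ∧ ∀ i, A ≤ centralizer (N i : Set G)}, (A : Subgroup G)
  obtain ⟨A, hA, hc⟩ := h.star
  have hAJ : A ≤ J := le_iSup
    (fun A : {A : Subgroup G // A ∈ AA O ∧ ∀ i, A ≤ centralizer (N i : Set G)} => (A : Subgroup G)) ⟨A, hA, hc⟩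
  have hJO : J ≤ O := iSup_le fun A => A.2.1.2.1
  refine nl J (fun e => ne_bot_of_mem_AA h.two hO hA (eq_bot_iff.2 (hAJ.trans e.le))) (h.two.to_le hJO) ?_
  intro l y hy
  refine mem_norm_of_le ?_
  rw [cj, Subgroup.map_iSup]
  refine iSup_le fun C => ?_
  obtain ⟨h1, h2⟩ := hinv l y hy C.1 C.2.1 C.2.2
  exact le_iSup (fun A : {A : Subgroup G // A ∈ AA O ∧ ∀ i, A ≤ centralizer (N i : Set G)} => (A : Subgroup G))
    ⟨cj y C.1, h1, h2⟩

/-- `J(O)` moves every `N j` when the symmetries are transitive -/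
theorem FrW.moves (hO : O ≠ ⊥)
    (nl : ∀ R : Subgroup G, R ≠ ⊥ → IsPGroup 2 R → ¬ ∀ j, Y' j ≤ normalizer (R : Set G))
    (tr : ∀ i j, ∃ g, ∃ σ : Equiv.Perm ι, SyW O Y Y' N g σ ∧ σ i = j) (j : ι) :
    ∃ A ∈ AA O, ¬ A ≤ centralizer (N j : Set G) := by
  by_contra hj
  push Not at hj
  have e : jj O = jj (O ⊓ centralizer (N j : Set G)) := by
    refine le_antisymm ?_ (jj_inf_le (h.N_eab j) (h.N_le_O j) (h.no j))
    rw [ChoiceBase.jj_eq O]
    exact sSup_le fun A hA => ChoiceBase.le_jj (mem_inf_of_mem_AA (h.N_eab j) (h.N_le_O j) (h.no j) hA (hj A hA))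
  have h1 : Y' j ≤ normalizer (jj O : Set G) := by
    rw [e]
    exact ((h.YY j).trans (h.YQ j)).trans (jj_norm _)
  refine nl (jj O) (jj_ne_bot h.two hO) (h.two.to_le (ChoiceBase.jj_le O)) fun i => ?_
  obtain ⟨g, σ, hg, hσ⟩ := tr j i
  have h2 := cj_mono g h1
  rwa [hg.s'.Y_eq, hσ, cj_normalizer, ← jj_cj, hg.s.O_eq] at h2

/-- **THEOREM S'' (transitive case), weak UNI**: a symmetry which fixes an index is trivial on the indices -/
theorem FrW.regular [Finite ι] (hO : O ≠ ⊥)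
    (nl : ∀ R : Subgroup G, R ≠ ⊥ → IsPGroup 2 R → ¬ ∀ j, Y' j ≤ normalizer (R : Set G))
    (tr : ∀ i j, ∃ g, ∃ σ : Equiv.Perm ι, SyW O Y Y' N g σ ∧ σ i = j) {g : G} {σ : Equiv.Perm ι}
    (hg : SyW O Y Y' N g σ) {n : ι} (hn : σ n = n) : σ = 1 := by
  classical
  have hm := h.moves hO nl tr
  refine Cfsg.Agent.Omega.ESym.Comb.fix_all
    (fun i j => ¬ Y' i ≤ normalizer ((N j ⊔ N i : Subgroup G) : Set G)) ?_ ?_ σ ?_ n hn
  · -- every index has an arrow
    intro j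
    by_contra hcon
    push Not at hcon
    have hall : ∀ i, Y' j ≤ normalizer ((N i ⊔ N j : Subgroup G) : Set G) := by
      intro i
      by_cases hi : i = j
      · rw [hi, sup_idem]; exact (h.YY j).trans (h.YN j)
      · exact hcon i hi
    have hall' : ∀ i k, Y' k ≤ normalizer ((N i ⊔ N k : Subgroup G) : Set G) := by
      intro i k
      obtain ⟨g, σ, hg, hσ⟩ := tr j k
      have h1 := hg.s'.conj_rel (hall (σ⁻¹ i))
      rwa [inv_r σ i, hσ] at h1
    refine nl (⨆ i, N i) ?_ (h.two.to_le (iSup_le h.N_le_O)) fun k => ?_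
    · obtain ⟨A, -, hA⟩ := hm j
      intro e
      apply hA
      have h1 : N j = ⊥ := eq_bot_iff.2 ((le_iSup N j).trans e.le)
      rw [h1]
      intro x _
      rw [mem_centralizer_iff]
      intro y hy
      rw [SetLike.mem_coe, mem_bot] at hy
      rw [hy, one_mul, mul_one]
    · intro x hx
      refine mem_norm_of_le ?_
      rw [cj, Subgroup.map_iSup]
      refine iSup_le fun i => ?_
      have h1 : cj x (N i) ≤ N i ⊔ N k := by
        refine (cj_mono x (le_sup_left (b := N k))).trans ?_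
        exact (cj_eq_of_mem_normalizer (hall' i k hx)).le
      exact h1.trans (sup_le (le_iSup N i) (le_iSup N k))
  · -- every proper set has a sink
    intro K hK hKu
    obtain ⟨k, hk⟩ := hK
    obtain ⟨A, hA, hAm⟩ := hm k
    obtain ⟨i, hi, hir⟩ := h.step hKu ⟨k, hk⟩ hA
      (fun hc => hAm (hc.trans (centralizer_le (h.N_le_EI hk))))
    exact ⟨i, hi, fun j hj _ => by rw [not_not]; exact hir j hj⟩
  · -- invariance
    intro i j hij hc
    apply hij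
    have h1 := hg.s'.inv.conj_rel hc
    rwa [inv_l σ i, inv_l σ j] at h1

/-- **THEOREM U (2), weak UNI**: no symmetry interchanges `l` and `m` and fixes the other indices. -/
theorem FrW.no_swap [Finite ι] (hO : O ≠ ⊥)
    (nl : ∀ R : Subgroup G, R ≠ ⊥ → IsPGroup 2 R → ¬ ∀ j, Y' j ≤ normalizer (R : Set G))
    {A : Subgroup G} (hA : A ∈ AA O) (hc : ∀ i, A ≤ centralizer (N i : Set G)) {l m : ι} (hlm : l ≠ m)
    (hAm : ¬ A ≤ centralizer (MM Y' N {l, m} : Set G)) {g : G} {σ : Equiv.Perm ι} (hg : SyW O Y Y' N g σ)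
    (h1 : σ l = m) (h3 : ∀ n, n ≠ l → n ≠ m → σ n = n) : False := by
  classical
  -- the orbit of `l`
  let I : Set ι := {j | ∃ g, ∃ σ : Equiv.Perm ι, SyW O Y Y' N g σ ∧ σ l = j}
  have hlI : l ∈ I := ⟨1, 1, syW_one, rfl⟩
  have hmI : m ∈ I := ⟨g, σ, hg, h1⟩
  have htr : ∀ j ∈ I, ∀ k ∈ I, ∃ g, ∃ σ : Equiv.Perm ι, SyW O Y Y' N g σ ∧ σ j = k := by
    rintro j ⟨g1, σ1, hg1, e1⟩ k ⟨g2, σ2, hg2, e2⟩
    refine ⟨g2 * g1⁻¹, σ2 * σ1⁻¹, hg2.mul hg1.inv, ?_⟩
    rw [Equiv.Perm.mul_apply, ← e1, inv_l σ1 l, e2]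
  by_cases hI : I = Set.univ
  · -- the transitive case: `THEOREM S''`
    obtain ⟨n, hn1, hn2⟩ := h.three l m
    have := h.regular hO nl (fun i j => htr i (hI ▸ Set.mem_univ i) j (hI ▸ Set.mem_univ j)) hg (h3 n hn1 hn2)
    rw [this] at h1
    exact hlm h1
  · have hpair : ({l, m} : Set ι) ⊆ I := by
      rintro x (rfl | rfl)
      · exact hlI
      · exact hmI
    obtain ⟨j, hj, hjr⟩ := h.step hI ⟨l, hlI⟩ hA
      (fun hx => hAm (hx.trans (centralizer_le ((h.MM_le_EI _).trans (EI_mono hpair)))))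
    have hall : ∀ i ∈ I, ∀ k ∈ I, Y' k ≤ normalizer ((N i ⊔ N k : Subgroup G) : Set G) := by
      intro i hi k hk
      obtain ⟨g', τ, hg', hτ⟩ := htr j hj k hk
      have h4 : τ⁻¹ i ∈ I := by
        obtain ⟨g1, σ1, hg1, e1⟩ := hi
        exact ⟨g'⁻¹ * g1, τ⁻¹ * σ1, hg'.inv.mul hg1, by rw [Equiv.Perm.mul_apply, e1]⟩
      have h5 := hg'.s'.conj_rel (hjr _ h4)
      rwa [inv_r τ i, hτ] at h5
    -- `M_lm ≤ N_l N_m`
    have hM : MM Y' N {l, m} ≤ N l ⊔ N m := by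
      refine MM_le ?_ ?_
      · rintro i (rfl | rfl)
        · exact le_sup_left
        · exact le_sup_right
      · rintro i (rfl | rfl)
        · rw [sup_comm]; exact hall m hmI i hlI
        · exact hall l hlI i hmI
    apply hAm
    exact comm_symm (hM.trans (sup_le (comm_symm (hc l)) (comm_symm (hc m))))

/-- `N_X(B) ≤ D`, `X = C_G(z_n : n ≠ l, m)` -/
theorem FrW.nB [Finite ι] (hO : O ≠ ⊥)
    (nl : ∀ R : Subgroup G, R ≠ ⊥ → IsPGroup 2 R → ¬ ∀ j, Y' j ≤ normalizer (R : Set G))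
    {A : Subgroup G} (hA : A ∈ AA O) (hc : ∀ i, A ≤ centralizer (N i : Set G)) {l m : ι} (hlm : l ≠ m)
    (hAm : ¬ A ≤ centralizer (MM Y' N {l, m} : Set G))
    {B : Subgroup G} {z : ι → G} (hz : Function.Injective z) (hD : D = centralizer (Set.range z))
    (NB : ∀ g ∈ normalizer (B : Set G), ∃ σ : Equiv.Perm ι, SyW O Y Y' N g σ ∧ ∀ i, g * z i * g⁻¹ = z (σ i)) :
    centralizer {x | ∃ n, n ≠ l ∧ n ≠ m ∧ z n = x} ⊓ normalizer (B : Set G) ≤ D := by
  rintro g ⟨hgX, hgB⟩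
  obtain ⟨σ, hσ, hσz⟩ := NB g hgB
  have hfix : ∀ n, n ≠ l → n ≠ m → σ n = n := by
    intro n hn1 hn2
    apply hz
    rw [← hσz n]
    have := (mem_centralizer_iff.1 hgX) (z n) ⟨n, hn1, hn2, rfl⟩
    rw [← this, mul_inv_cancel_right]
  have hl : σ l = l := by
    by_contra hne
    have hm : σ l = m := by
      by_contra hne'
      have h4 := hfix _ hne hne'
      exact hne (σ.injective h4)
    exact h.no_swap hO nl hA hc hlm hAm hσ hm hfix
  have hmm : σ m = m := by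
    by_contra hne
    have hne' : σ m ≠ l := fun e => hlm (σ.injective (hl.trans e.symm))
    exact hne (σ.injective (hfix _ hne' hne))
  rw [hD, mem_centralizer_iff]
  rintro _ ⟨i, rfl⟩
  have hi : σ i = i := by
    by_cases h1 : i = l
    · rw [h1]; exact hl
    by_cases h2 : i = m
    · rw [h2]; exact hmm
    · exact hfix i h1 h2
  have := hσz i
  rw [hi] at this
  exact (mul_inv_eq_iff_eq_mul.1 this).symm

/-- **THEOREM U (2), weak UNI**: `B` is a Sylow 2-subgroup of `X = C_G(z_n : n ≠ l, m)`. -/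
theorem FrW.syl [Finite ι] (hO : O ≠ ⊥)
    (nl : ∀ R : Subgroup G, R ≠ ⊥ → IsPGroup 2 R → ¬ ∀ j, Y' j ≤ normalizer (R : Set G))
    {A : Subgroup G} (hA : A ∈ AA O) (hc : ∀ i, A ≤ centralizer (N i : Set G)) {l m : ι} (hlm : l ≠ m)
    (hAm : ¬ A ≤ centralizer (MM Y' N {l, m} : Set G))
    {B : Subgroup G} (hB : IsPGroup 2 B) (hBD : B ≤ D) (hsyl : ¬ 2 ∣ B.relIndex D)
    {z : ι → G} (hz : Function.Injective z) (hD : D = centralizer (Set.range z))
    (NB : ∀ g ∈ normalizer (B : Set G), ∃ σ : Equiv.Perm ι, SyW O Y Y' N g σ ∧ ∀ i, g * z i * g⁻¹ = z (σ i)) :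
    ¬ 2 ∣ B.relIndex (centralizer {x | ∃ n, n ≠ l ∧ n ≠ m ∧ z n = x}) := by
  refine sylow_of_norm hB hBD ?_ hsyl (h.nB hO nl hA hc hlm hAm hz hD NB)
  rw [hD]
  exact centralizer_le (by rintro _ ⟨n, -, -, rfl⟩; exact ⟨n, rfl⟩)

/-- **THEOREM U (1), (2) together, weak UNI.** -/
theorem FrW.main [Finite ι] (hO : O ≠ ⊥)
    (nl : ∀ R : Subgroup G, R ≠ ⊥ → IsPGroup 2 R → ¬ ∀ j, Y' j ≤ normalizer (R : Set G))
    {B : Subgroup G} (hB : IsPGroup 2 B) (hBD : B ≤ D) (hsyl : ¬ 2 ∣ B.relIndex D)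
    {z : ι → G} (hz : Function.Injective z) (hD : D = centralizer (Set.range z))
    (NB : ∀ g ∈ normalizer (B : Set G), ∃ σ : Equiv.Perm ι, SyW O Y Y' N g σ ∧ ∀ i, g * z i * g⁻¹ = z (σ i)) :
    ∃ A ∈ AA O, (∀ i, A ≤ centralizer (N i : Set G)) ∧ ∃ l m, l ≠ m ∧
      ¬ A ≤ centralizer (EI ZJ Y {l, m} : Set G) ∧
      ¬ 2 ∣ B.relIndex (centralizer {x | ∃ n, n ≠ l ∧ n ≠ m ∧ z n = x}) ∧
      centralizer {x | ∃ n, n ≠ l ∧ n ≠ m ∧ z n = x} ⊓ normalizer (B : Set G) ≤ D := by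
  obtain ⟨A, hA, hc, l, m, hlm, hAm⟩ := h.exists_A hO nl
  exact ⟨A, hA, hc, l, m, hlm, fun hx => hAm (hx.trans (centralizer_le (h.MM_le_EI _))),
    h.syl hO nl hA hc hlm hAm hB hBD hsyl hz hD NB, h.nB hO nl hA hc hlm hAm hz hD NB⟩

end core

end Cfsg.Agent.Omega.EDel.BxW
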