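import Cfsg.Agent.Omega.EDel.BxW.Par
import Cfsg.Agent.Omega.EDel.BxW.ThmU
import Cfsg.Agent.Omega.EDel.Bx.Inst

/-!
# THEOREM U from weak UNI (helper165 #26684): the inputs over the frame `Bw`

* `Bw.closure_eq`, `Bw.D_eq`, `Bw.O_ne`, `Bw.QO`, `Bw.ch` : as for `Bx`;
* **`Bw.toFr`** : the structure `FrW` for `Y i = C_G(z_l : l ≠ i)`, `Y' i = Yp`, `N i = ⟨z_i^(Y_i)⟩`;
* **`Bw.NB`** : `N_G(B)` induces symmetries; **`Bw.par_pair`**.
-/

set_option autoImplicit false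
set_option linter.unusedSectionVars false

namespace Cfsg.Agent.Omega.EDel.BxW

open Subgroup Cfsg Cfsg.Agent.ZN.ChoiceBase
open Cfsg.Agent.ZN (zc zl o2)
open Cfsg.Agent.ZN.ChoiceSit (Syl o2_le_syl)
open Cfsg.Agent.Omega.NO3S.EThree.ExactA (eab_mono eab_sup eab_iff)
open Cfsg.Agent.Omega.EK3 (CT mem_CT CT_mono ET ZJ_le_ET CT_norm_ET V_le_ET CT_compl_le CT_compl_le' Yc mem_Yc Nc
  Y_norm_V Y_norm_N)
open Cfsg.Agent.Omega.EK3.Rank (NoOn)
open Cfsg.Agent.Omega.ESym.CoreS (EI EI_mono EI_norm Sy mem_norm_of_le)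
open Cfsg.Agent.Omega.EDel.BxF (X_eq Yc_eq)
open Cfsg.Agent.MinSimple.MinParabolic (IsMinPar le_of_forall)
open Cfsg.Agent.MinSimple.VModule (zc_le normalizer_le_normalizer_zc le_normalizer_o2 o2_isPGroup le_o2 o2_le
  le_centralizer_zc)
open scoped Pointwise

universe u

variable {G : Type u} [Group G]

namespace Bw

variable [Finite G] {B J ZJ : Subgroup G} {ι : Type} {L W : ι → Subgroup G} {z : ι → G} (h : Bw B J ZJ L W z)
include h

theorem closure_eq : ZJ = closure (Set.range z) :=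
  le_antisymm h.gen ((closure_le _).2 (by rintro _ ⟨i, rfl⟩; exact h.zJ i))

theorem D_eq : centralizer (ZJ : Set G) = centralizer (Set.range z) := by
  rw [h.closure_eq, centralizer_closure]

/-- `O ≠ 1` -/
theorem O_ne [Nonempty ι] : o2 (centralizer (ZJ : Set G)) ≠ ⊥ := by
  obtain ⟨i⟩ := ‹Nonempty ι›
  intro e
  have h1 := h.N_le_O i (h.mem_N i)
  rw [e, mem_bot] at h1
  exact h.ne i h1

/-- **the frame of THEOREM U (weak UNI)** -/
theorem toFr (hML : ML.Final.MLK.{u, u}) (kg : ∀ j, IsKGroup (Yc z j)) :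
    FrW (o2 (centralizer (ZJ : Set G))) (centralizer (ZJ : Set G)) ZJ (Yc z) (Yp ZJ W z) (Nc z) where
  two := o2_isPGroup _
  OY := h.O_le_Y
  OZ := o2_le _
  DY := fun i => D_le_Yp i
  YY := h.Yp_le
  three := h.three
  eab := by
    intro I hI
    have hne : (Iᶜ : Set ι).Nonempty := Set.nonempty_compl.2 hI
    exact ⟨eab_mono (h.eab_ET hne) (BxF.Bx.EI_le I), (BxF.Bx.EI_le I).trans (h.ET_le_O hne)⟩
  NE := by
    intro i
    refine N_le_of ?_ (EI_norm rfl)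
    have h1 : cj (1 : G) ZJ ≤ EI ZJ (Yc z) {i} :=
      le_iSup (fun y : (⨆ j : ({i} : Set ι), Yc z j : Subgroup G) => cj (y : G) ZJ) 1
    rw [cj_one] at h1
    exact h1 (h.zJ i)
  YN := Y_norm_N
  YQ := by
    intro i
    rw [← h.Q_eq i]
    exact le_normalizer_o2 _
  no := fun i => h.no hML (kg i)
  gen := by
    intro j K hK hn hc
    exact h.genW hK hn fun h' => hc (inf_le_left.trans h')

/-- `N_G(B)` permutes the `z i` and induces symmetries -/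
theorem NB [Finite ι] {g : G} (hg : g ∈ normalizer (B : Set G)) :
    ∃ σ : Equiv.Perm ι, SyW (o2 (centralizer (ZJ : Set G))) (Yc z) (Yp ZJ W z) (Nc z) g σ ∧
      ∀ i, g * z i * g⁻¹ = z (σ i) := by
  obtain ⟨σ, hσ⟩ := h.conjW hg
  have hO : cj g (o2 (centralizer (ZJ : Set G))) = o2 (centralizer (ZJ : Set G)) := by
    rw [← ZN.ChoiceSit.o2_cj, cj_centralizer, cj_eq_of_mem_normalizer (h.norm_ZJ hg)]
  exact ⟨σ, ⟨⟨hO, fun l => (hσ l).2.1, fun l => (hσ l).2.2.1⟩, ⟨hO, fun l => (hσ l).2.2.2, fun l => (hσ l).2.2.1⟩⟩,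
    fun i => (hσ i).1⟩

theorem QO (i : ι) : o2 (centralizer (ZJ : Set G)) ⊓ centralizer (Nc z i : Set G) ≤ o2 (Yc z i) := (h.Q_eq i).ge

/-- `X = C_G(z_n : n ≠ l, m)` has characteristic 2 -/
theorem ch (l m : ι) : centralizer {x | ∃ n, n ≠ l ∧ n ≠ m ∧ z n = x} ⊓
    centralizer (o2 (centralizer {x | ∃ n, n ≠ l ∧ n ≠ m ∧ z n = x}) : Set G) ≤
      o2 (centralizer {x | ∃ n, n ≠ l ∧ n ≠ m ∧ z n = x}) := by
  rw [X_eq]
  exact h.char2_CT (compl_two_ne h.three l m)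

/-- the members of `𝒫(X, B)` centralise `z l` or `z m` -/
theorem par_pair {l m : ι} (hlm : l ≠ m) (hs : Syl B (centralizer {x | ∃ n, n ≠ l ∧ n ≠ m ∧ z n = x}))
    (hN : centralizer {x | ∃ n, n ≠ l ∧ n ≠ m ∧ z n = x} ⊓ normalizer (B : Set G) ≤ centralizer (ZJ : Set G))
    {R : Subgroup G} (hR : IsMinPar B R) (hRX : R ≤ centralizer {x | ∃ n, n ≠ l ∧ n ≠ m ∧ z n = x}) :
    R ≤ centralizer ({z l} : Set G) ∨ R ≤ centralizer ({z m} : Set G) := by
  rw [X_eq] at hs hN hRX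
  by_cases hD : R ≤ centralizer (ZJ : Set G)
  · exact Or.inl fun x hx => mem_centralizer_singleton_iff.2 (h.D_comm (hD hx) l)
  obtain ⟨i, -, hi⟩ := h.parX (compl_two_ne h.three l m) hs hN hR hRX hD
  by_cases hil : l = i
  · exact Or.inr (hi m fun e => hlm (hil.trans e.symm))
  · exact Or.inl (hi l hil)

end Bw

end Cfsg.Agent.Omega.EDel.BxW
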