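import Cfsg.Agent.Omega.OM.LowV.Core

/-!
# THEOREM U over `B = BL S n`, weak `par`: the minimal parabolics of smaller stage

* `LowW S n Z W` : every `R ∈ P(B)`, `R ≤ C_G(Z l)` for some `l`, of stage `< n` which moves `Ω₁Z(B)` fuses the elements of
  some `(W i)#` and centralises `Z p`, `p ≠ i`;
* `lowW_of` : `LnV` gives `LowW` (helper646's torus block).
-/

set_option autoImplicit false
set_option linter.unusedSectionVars false

namespace Cfsg.Agent.Omega.EDel.BxW

open Subgroup Cfsg Cfsg.Agent.ZN.ChoiceBase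
open Cfsg.Agent.ZN (zc zl o2)
open Cfsg.Agent.ZN.ChoiceSit (Syl)
open Cfsg.Agent.Omega.OM
open Cfsg.Agent.Omega.OM.SwapL (ZL BL)
open Cfsg.Agent.Omega.OM.SwapV.Lv (LnV)
open Cfsg.Agent.Omega.NO3S.Level (lev)
open Cfsg.Agent.MinSimple.MinParabolic (IsMinPar)

universe u

variable {G : Type u} [Group G] [Finite G]

/-- **The minimal parabolics of smaller stage over `B` inside a `C_G(Z l)` fuse `(W i)#`.** -/
def LowW (S : Sylow 2 G) (n : ℕ) {ι : Type} (Z W : ι → Subgroup G) : Prop :=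
  ∀ R : Subgroup G, (∃ l, R ≤ centralizer (Z l : Set G)) → IsMinPar (BL (S : Subgroup G) n) R →
    Syl (BL (S : Subgroup G) n) R → R ⊓ centralizer (o2 R : Set G) ≤ o2 R →
    ¬ R ≤ centralizer (zc (BL (S : Subgroup G) n) : Set G) → ¬ lev (S : Subgroup G) n ≤ o2 R →
    ∃ i, (∀ x ∈ W i, x ≠ 1 → ∃ r ∈ R, ∃ w ∈ Z i, r * w * r⁻¹ = x) ∧ ∀ p, p ≠ i → R ≤ centralizer (Z p : Set G)

/-- a fixed-point-free automorphism of a group of order 4 is transitive -/
theorem trans_four {c : Subgroup G} (h4 : Nat.card c = 4) {τ : G} (hτ : cj τ c = c)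
    (h1 : ∀ x ∈ c, τ * x * τ⁻¹ = x → x = 1) {w x : G} (hw : w ∈ c) (hw1 : w ≠ 1) (hx : x ∈ c) (hx1 : x ≠ 1) :
    x = w ∨ x = τ * w * τ⁻¹ ∨ x = τ * (τ * w * τ⁻¹) * τ⁻¹ := by
  classical
  have hmem : ∀ y ∈ c, τ * y * τ⁻¹ ∈ c := fun y hy => by
    rw [← hτ]
    exact ⟨y, hy, rfl⟩
  have hne : ∀ y : G, y ≠ 1 → τ * y * τ⁻¹ ≠ 1 := fun y hy h => hy (by simpa using h)
  set a : G := τ * w * τ⁻¹ with ha
  set b : G := τ * a * τ⁻¹ with hb
  have hac : a ∈ c := hmem w hw
  have hbc : b ∈ c := hmem a hac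
  have ha1 : a ≠ 1 := hne w hw1
  have hb1 : b ≠ 1 := hne a ha1
  have haw : a ≠ w := fun h => hw1 (h1 w hw (by rw [← ha]; exact h))
  have hba : b ≠ a := fun h => ha1 (h1 a hac (by rw [← hb]; exact h))
  by_contra hcon
  push Not at hcon
  obtain ⟨hxw, hxa, hxb⟩ := hcon
  -- four elements
  have hcard : ({1, w, a, x} : Finset G).card = 4 := by
    rw [Finset.card_insert_of_notMem, Finset.card_insert_of_notMem, Finset.card_insert_of_notMem,
      Finset.card_singleton]
    · simpa using fun h => hxa h.symm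
    · simp only [Finset.mem_insert, Finset.mem_singleton, not_or]
      exact ⟨fun h => haw h.symm, fun h => hxw h.symm⟩
    · simp only [Finset.mem_insert, Finset.mem_singleton, not_or]
      exact ⟨fun h => hw1 h.symm, fun h => ha1 h.symm, fun h => hx1 h.symm⟩
  have hsub : (({1, w, a, x} : Finset G) : Set G) ⊆ (c : Set G) := by
    intro y hy
    simp only [Finset.coe_insert, Finset.coe_singleton, Set.mem_insert_iff, Set.mem_singleton_iff] at hy
    rcases hy with rfl | rfl | rfl | rfl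
    · exact one_mem _
    · exact hw
    · exact hac
    · exact hx
  have heq : (({1, w, a, x} : Finset G) : Set G) = (c : Set G) := by
    refine Set.eq_of_subset_of_ncard_le hsub ?_ (Set.toFinite _)
    rw [Set.ncard_coe_finset, hcard]
    exact h4.le
  have hb' : b ∈ ({1, w, a, x} : Finset G) := by
    have : b ∈ (c : Set G) := hbc
    rw [← heq] at this
    exact_mod_cast this
  simp only [Finset.mem_insert, Finset.mem_singleton] at hb'
  rcases hb' with h | h | h | h
  · exact hb1 h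
  · -- `b = w` : then `x` is fixed
    have hx' : τ * x * τ⁻¹ ∈ ({1, w, a, x} : Finset G) := by
      have : τ * x * τ⁻¹ ∈ (c : Set G) := hmem x hx
      rw [← heq] at this
      exact_mod_cast this
    simp only [Finset.mem_insert, Finset.mem_singleton] at hx'
    have inj : ∀ {y z : G}, τ * y * τ⁻¹ = τ * z * τ⁻¹ → y = z := fun h => by
      have := congrArg (fun t => τ⁻¹ * t * τ) h
      simpa [mul_assoc] using this
    rcases hx' with h' | h' | h' | h'
    · exact hne x hx1 h'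
    · exact hxa (inj (h'.trans (h.symm.trans hb)))
    · exact hxw (inj (h'.trans ha))
    · exact hx1 (h1 x hx h')
  · exact hba h
  · exact hxb h.symm

/-- **`LnV` gives `LowW`.** -/
theorem lowW_of {ι : Type} [Finite ι] [Nonempty ι] {S : Sylow 2 G} {V Q : Subgroup G} {n : ℕ}
    {L W Z C A : ι → Subgroup G} (h : LnV S V Q n L W Z C A) (two : ∀ i : ι, ∃ j, j ≠ i) : LowW S n Z W := by
  rintro R - hR hT hc hZ hn
  obtain ⟨j, K, N₁, c, τ, l, hb, -⟩ := LowV.exists_blk h two hR hT hc hn hZ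
  have hcW := hb.cW
  subst hcW
  obtain ⟨w, hw, hw1⟩ := SwapV.Lv.Z_ne h l
  have hwW : w ∈ W l := SwapV.Lv.Z_W h l hw
  have hτR : τ ∈ R := hb.KR hb.τK
  refine ⟨l, fun x hx hx1 => ?_, fun p hp => ?_⟩
  · rcases trans_four hb.c4 hb.τc hb.τ1 hwW hw1 hx hx1 with rfl | rfl | rfl
    · exact ⟨1, one_mem _, x, hw, by simp⟩
    · exact ⟨τ, hτR, w, hw, rfl⟩
    · exact ⟨τ * τ, mul_mem hτR hτR, w, hw, by group⟩
  · refine hb.RK.trans (sup_le ?_ (le_centralizer_iff.1 (hb.ZK p hp)))
    exact (SwapL.lb S n).Bc.trans (centralizer_le (h.fr.Z_le p))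

end Cfsg.Agent.Omega.EDel.BxW
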