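import Cfsg.Agent.Omega.EDel.BxW.Base
import Cfsg.Agent.Omega.EDel.Bx.OfFg

/-!
# The universal frame over `B` with WEAK UNI, `q = 2`, from the frame `Fg` (helper165 #26684)

* `WeakPar B W Z ZJ R` : some `Z i` is moved by `R` inside `W i ⊔ ZJ`, and `R` centralises the other `Z l`;
* `of_fgW` : port of `BxF.of_fg'`; a block over `B` may be of torus type.
-/

set_option autoImplicit false
set_option linter.unusedSectionVars false

namespace Cfsg.Agent.Omega.EDel.BxW

open Subgroup Cfsg Cfsg.Agent.ZN.ChoiceBase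
open Cfsg.Agent.ZN (zc zl o2)
open Cfsg.Agent.ZN.ChoiceSit (Syl o2_le_syl)
open Cfsg.Agent.Omega.OM Cfsg.Agent.Omega.OM.Uni
open Cfsg.Agent.Omega.NO3S.EThree.Frame
open Cfsg.Agent.Omega.Node.MultiOf (FBl)
open Cfsg.Agent.Omega.EDel.BxF (Fg_exists_mv Fg_ZJ_le exists_gen_two)
open Cfsg.Agent.MinSimple.MinParabolic (IsMinPar)
open scoped Pointwise

universe u

variable {G : Type u} [Group G]

/-- **Weak UNI for one `R`.** -/
def WeakPar {ι : Type} (W Z : ι → Subgroup G) (ZJ R : Subgroup G) : Prop :=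
  ∃ i, (∃ r ∈ R, cj r (Z i) ≤ W i ⊔ ZJ ∧ ¬ cj r (Z i) ≤ ZJ) ∧ ∀ l, l ≠ i → R ≤ centralizer (Z l : Set G)

/-- **The universal frame with weak UNI from `Fg`.** -/
theorem of_fgW [Finite G] {ι : Type} [Finite ι] {S : Sylow 2 G} {K B ZJ Q V : Subgroup G} {L W Z C : ι → Subgroup G}
    (c2 : IsCharacteristicTwoType G) (lb : LevD.LB S K B ZJ) (fr : Fg B Q V ZJ L W Z C 2)
    (perm : ∀ g ∈ normalizer (B : Set G), ∀ i, ∃ j, cj g (Z i) = Z j)
    (hb : ∀ R : Subgroup G, (∃ l, R ≤ centralizer (Z l : Set G)) → IsMinPar B R → Syl B R →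
      R ⊓ centralizer (o2 R : Set G) ≤ o2 R → ¬ K ≤ o2 R → ¬ R ≤ centralizer (zc B : Set G) →
      (∃ i, R ≤ L i ⊔ centralizer ((W i ⊔ ZJ : Subgroup G) : Set G) ⊔ B) ∨ WeakPar W Z ZJ R)
    (three : ∀ i j : ι, ∃ l, l ≠ i ∧ l ≠ j) :
    ∃ z : ι → G, (∀ i x, x ∈ Z i ↔ x = 1 ∨ x = z i) ∧ Bw B K ZJ L W z := by
  have h1 : ∀ i, ∃ v, v ≠ 1 ∧ ∀ x, x ∈ Z i ↔ x = 1 ∨ x = v := fun i => exists_gen_two (fr.cardZ i)
  choose z hz1 hz using h1
  have hzZ : ∀ i, z i ∈ Z i := fun i => (hz i _).2 (Or.inr rfl)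
  have hzW : ∀ i, z i ∈ W i := fun i => (fr.blk i).ZV (hzZ i)
  have hzJ : ∀ i, z i ∈ ZJ := fun i => fr.Z_le i (hzZ i)
  have hnW : ∀ i, L i ≤ normalizer (W i : Set G) := fun i l hl => by
    rw [mem_normalizer_iff_cj]
    refine Subgroup.eq_of_le_of_card_ge ?_ (by rw [card_cj])
    rintro _ ⟨w, hw, rfl⟩
    exact (fr.blk i).nV l hl w hw
  have hzC : ∀ i j, i ≠ j → z j ∈ C i := fun i j hij => fr.WjC i j hij (hzW j)
  have hLY : ∀ i l, l ≠ i → L i ≤ centralizer ({z l} : Set G) := fun i l hl x hx =>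
    mem_centralizer_singleton_iff.2 (fr.LC i x hx (z l) (hzJ l) (hzC i l hl.symm))
  have hLmv : ∀ i, ¬ L i ≤ centralizer ({z i} : Set G) := fun i hle => by
    obtain ⟨l, hl, hmv⟩ := Fg_exists_mv fr i
    have h2 : l * z i = z i * l := mem_centralizer_singleton_iff.1 (hle hl)
    refine hmv (Subgroup.eq_of_le_of_card_ge ?_ (card_cj _ _).ge)
    rintro _ ⟨x, hx, rfl⟩
    rcases (hz i x).1 hx with rfl | rfl
    · simp
    · change l * z i * l⁻¹ ∈ Z i
      rw [h2, mul_inv_cancel_right]
      exact hzZ i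
  have hWJ : ∀ i, ∀ x ∈ W i, x ∈ ZJ → x = 1 ∨ x = z i := fun i x hx hxJ =>
    (hz i x).1 ((fr.blk i).toMd.mem_Z_iff.2 ⟨hx, ((fr.mem_ZJ x).1 hxJ).2⟩)
  have hgen : ZJ ≤ closure (Set.range z) := by
    refine (Fg_ZJ_le fr).trans (iSup_le fun i x hx => ?_)
    rcases (hz i x).1 hx with rfl | rfl
    · exact one_mem _
    · exact subset_closure ⟨i, rfl⟩
  refine ⟨z, hz, ?_⟩
  exact
    { c2 := c2
      two := lb.Bp
      wc := fun T hT hBT => lb.two_le hT hBT
      syl := lb.syl
      zJB := fr.zcB.ge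
      nB := by
        rw [← fr.zcB]
        exact Cfsg.Agent.MinSimple.VModule.normalizer_le_normalizer_zc B
      WzB := fun i x hx hb' => (fr.mem_ZJ x).2 ⟨fr.WV i hx, hb'⟩
      zJ := hzJ
      gen := hgen
      ne := hz1
      inj := by
        intro i j e
        by_contra hij
        have h2 : z i ∈ W i ⊓ C i := ⟨hzW i, e ▸ hzC i j hij⟩
        rw [fr.dir i, mem_bot] at h2
        exact hz1 i h2
      zW := hzW
      WB := fun i => (fr.WV i).trans fr.VB
      cardW := fun i => by rw [(fr.blk i).card, fr.cardZ i]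
      sqW := fun i x hx => fr.Vsq (fr.WV i hx)
      WJ := hWJ
      BW := fun i b hb' x hx => (hz i _).1 ((fr.blk i).com b hb' x hx)
      LY := hLY
      LW := hnW
      Lmv := hLmv
      perm := by
        intro g hg i
        obtain ⟨j, hj⟩ := perm g hg i
        refine ⟨j, ?_⟩
        have h2 : g * z i * g⁻¹ ∈ Z j := by
          rw [← hj]
          exact ⟨z i, hzZ i, rfl⟩
        rcases (hz j _).1 h2 with h3 | h3
        · exact absurd (conj_eq_one_iff.1 h3) (hz1 i)
        · exact h3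
      nJ := fun T hT hK => lb.nrm T hT hK
      par := by
        rintro R ⟨l, hl⟩ hR hT hc hK hJ
        have hc1 : ∀ m, R ≤ centralizer (Z m : Set G) → R ≤ centralizer ({z m} : Set G) := fun m hm =>
          hm.trans (centralizer_le (Set.singleton_subset_iff.2 (hzZ m)))
        rcases hb R ⟨l, by
          intro r hr
          rw [mem_centralizer_iff]
          intro x hx
          rcases (hz l x).1 hx with rfl | rfl
          · simp
          · exact (mem_centralizer_singleton_iff.1 (hl hr)).symm⟩ hR hT hc hK (by rw [fr.zcB]; exact hJ) with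
          ⟨i, hi⟩ | ⟨i, ⟨r, hr, h2, h3⟩, h4⟩
        · have hRW : R ≤ normalizer (W i : Set G) := by
            refine hi.trans (sup_le (sup_le (hnW i) ?_) ?_)
            · refine le_trans (centralizer_le ?_) (centralizer_le_normalizer _)
              exact_mod_cast (le_sup_left : W i ≤ W i ⊔ ZJ)
            · exact (fr.blk i).BL.trans (hnW i)
          have hRc : ∀ m, m ≠ i → R ≤ centralizer ({z m} : Set G) := fun m hm =>
            hi.trans (sup_le (sup_le (hLY i m hm) (centralizer_le (Set.singleton_subset_iff.2 (mem_sup_right (hzJ m)))))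
              (lb.Bc.trans (centralizer_le (Set.singleton_subset_iff.2 (hzJ m)))))
          refine ⟨i, ?_, hRc⟩
          by_contra hcon
          push Not at hcon
          refine hJ fun r hr => ?_
          have h5 : ∀ m, r * z m = z m * r := fun m => by
            by_cases hm : m = i
            · subst hm
              have h6 : r * z m * r⁻¹ ∈ W m := (mem_normalizer_iff.1 (hRW hr) _).1 (hzW m)
              rcases hWJ m _ h6 (hcon r hr (mem_sup_left h6)) with h7 | h7
              · exact absurd (conj_eq_one_iff.1 h7) (hz1 m)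
              · exact mul_inv_eq_iff_eq_mul.1 h7
            · exact mem_centralizer_singleton_iff.1 (hRc m hm hr)
          have h6 : ZJ ≤ centralizer ({r} : Set G) := by
            refine hgen.trans ((closure_le _).2 ?_)
            rintro _ ⟨m, rfl⟩
            exact mem_centralizer_singleton_iff.2 (h5 m).symm
          rw [mem_centralizer_iff]
          exact fun y hy => mem_centralizer_singleton_iff.1 (h6 hy)
        · refine ⟨i, ⟨r, hr, h2 ⟨z i, hzZ i, rfl⟩, fun h5 => h3 ?_⟩, fun m hm => hc1 m (h4 m hm)⟩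
          rintro _ ⟨x, hx, rfl⟩
          rcases (hz i x).1 hx with rfl | rfl
          · simp
          · exact h5
      three := three }

end Cfsg.Agent.Omega.EDel.BxW
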