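import Cfsg.Agent.Omega.EDel.BxW.OfLnV
import Cfsg.Agent.Omega.EDel.BxW.Final
import Cfsg.Agent.Omega.EDel.Bx.OfLine
import Cfsg.Agent.Omega.NOThreeL.RRed.BFr.VSup

/-!
# Box R, at least three blocks over `B = BL S n` (stage `n ≥ 0`), `q = 2`: THEOREM U without `LL`

* `false_lnvW` : over `LnV`;
* `false_levW` : over `FrL`, `V = V*`, `L i ≤ MZ S` (helper947's `Bd.frL`): no hypothesis on the parabolics of lower stage.
-/

set_option autoImplicit false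
set_option linter.unusedSectionVars false

namespace Cfsg.Agent.Omega.EDel.BxW

open Subgroup Cfsg Cfsg.Agent.ZN.ChoiceBase
open Cfsg.Agent.ZN (zc zl o2)
open Cfsg.Agent.Omega.OM
open Cfsg.Agent.Omega.OM.SwapL (ZL BL)
open Cfsg.Agent.Omega.OM.SwapV.Lv (LnV)
open Cfsg.Agent.Omega.OM.Lev.Uni (FrL)
open Cfsg.Agent.Omega.NO3S.Level (lev)
open Cfsg.Agent.Omega.MinPar (IsParS)
open Cfsg.Agent.Omega.NOThreeL.RTree (RB)
open Cfsg.Agent.Omega.NOThreeL.Merge (MZ)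
open Cfsg.Agent.Omega.NOThreeL.RRed.BFr
open Cfsg.Agent.Omega.NOThreeL.RRed (Wd)
open Cfsg.Agent.Omega.EDel.BxF (kg_of)

universe u

variable {G : Type u} [Group G] [Finite G] {ι : Type} [Finite ι] {S : Sylow 2 G} {n : ℕ} {Q V : Subgroup G}
  {L W Z C A : ι → Subgroup G}

/-- the conclusion from `nl` -/
theorem false_of_nlW [Nonempty ι] (hML : ML.Final.MLK.{u, u}) (hE : ML.Ex.Two.Ext.{u, u}) (ctx : Frame.Ctx G)
    (h : LnV S V Q n L W Z C A) (h3 : ∀ i j : ι, ∃ l, l ≠ i ∧ l ≠ j)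
    (nl : ∀ R : Subgroup G, IsPGroup 2 R → centralizer (ZL (S : Subgroup G) n : Set G) ≤ normalizer (R : Set G) →
      (∀ i, L i ≤ normalizer (R : Set G)) → R = ⊥) : False := by
  obtain ⟨z, -, hb⟩ := exists_bw_lev h h3
  exact hb.false_of hML hE (kg_of ctx hb.ne) fun R hR hR2 hall => hR (nl R hR2 hall.1 hall.2)

/-- **THEOREM U at stage `n` in box R**, over `LnV`. -/
theorem false_lnvW [Nonempty ι] (hML : ML.Final.MLK.{u, u}) (hE : ML.Ex.Two.Ext.{u, u}) (B : RB S)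
    (h : LnV S V Q n L W Z C A)
    (hall : ∀ R : Subgroup G, IsParS (S : Subgroup G) R → lev (S : Subgroup G) n ≤ o2 R)
    (h3 : ∀ i j : ι, ∃ l, l ≠ i ∧ l ≠ j) : False :=
  false_of_nlW hML hE B.ctx h h3 fun _ hR hD hLR => NlLev.nl B hall h hR hD hLR

/-- **THEOREM U at stage `n` in box R**, over `FrL`, `V = V*`. -/
theorem false_levW [Nonempty ι] (hML : ML.Final.MLK.{u, u}) (hE : ML.Ex.Two.Ext.{u, u}) (B : RB S)
    (fr : FrL (BL (S : Subgroup G) n) Q (Wd (S : Subgroup G)) (zc (lev (S : Subgroup G) n)) (ZL (S : Subgroup G) n)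
      L W Z C A 2) (hL : ∀ i, L i ≤ MZ (S : Subgroup G)) (h3 : ∀ i j : ι, ∃ l, l ≠ i ∧ l ≠ j) : False :=
  false_lnvW hML hE B (VSup.lnV B fr hL) (VSup.hall fr.VX) h3

end Cfsg.Agent.Omega.EDel.BxW
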