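import Cfsg.Agent.Omega.EDel.BxW.OfFgW
import Cfsg.Agent.Omega.OM.LowV.Core
import Cfsg.Agent.Omega.TC.UniLev
import Cfsg.Agent.Omega.OM.Lev.Main

/-!
# The universal frame with WEAK UNI over `B = BL S n` (stage `n ≥ 0`), `q = 2`, over `LnV`

A minimal parabolic `R` over `B` which moves `Ω₁Z(B)` has stage `≥ n` (then UNI+), or it is of torus type (helper646's
`LowV.exists_blk`); both are allowed by helper165's frame `Bw`. No transitivity, light pairs with a common letter allowed.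

* `weakPar_of` : `R` of lower stage;
* `exists_bw_lev` : `LnV` (at least three blocks) gives the frame `Bw`.
-/

set_option autoImplicit false
set_option linter.unusedSectionVars false

namespace Cfsg.Agent.Omega.EDel.BxW

open Subgroup Cfsg Cfsg.Agent.ZN.ChoiceBase
open Cfsg.Agent.ZN (zc zl o2)
open Cfsg.Agent.ZN.ChoiceSit (Syl o2_le_syl)
open Cfsg.Agent.Omega.OM Cfsg.Agent.Omega.OM.Uni
open Cfsg.Agent.Omega.OM.SwapL (ZL BL)
open Cfsg.Agent.Omega.OM.SwapV.Lv (LnV)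
open Cfsg.Agent.Omega.NO3S.Level (lev lev_isLev)
open Cfsg.Agent.Omega.NO3S.EThree.Frame
open Cfsg.Agent.MinSimple.MinParabolic (IsMinPar)

universe u

variable {G : Type u} [Group G] [Finite G] {ι : Type} [Finite ι] {S : Sylow 2 G} {n : ℕ} {Q V : Subgroup G}
  {L W Z C A : ι → Subgroup G}

/-- **A minimal parabolic over `B` of lower stage which moves `Ω₁Z(B)`: weak UNI.** -/
theorem weakPar_of [Nonempty ι] (h : LnV S V Q n L W Z C A) (two : ∀ i : ι, ∃ j, j ≠ i) {R : Subgroup G}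
    (hP : IsMinPar (BL (S : Subgroup G) n) R) (hT : Syl (BL (S : Subgroup G) n) R)
    (hc : R ⊓ centralizer (o2 R : Set G) ≤ o2 R) (hn : ¬ lev (S : Subgroup G) n ≤ o2 R)
    (hZ : ¬ R ≤ centralizer (zc (BL (S : Subgroup G) n) : Set G)) : WeakPar W Z (ZL (S : Subgroup G) n) R := by
  obtain ⟨j, K, N₁, c, τ, l, k, -⟩ := LowV.exists_blk h two hP hT hc hn hZ
  refine ⟨l, ⟨τ, k.KR k.τK, ?_, fun hle => ?_⟩, fun m hm => ?_⟩
  · have h1 := cj_mono τ ((SwapV.Lv.Z_W h l).trans k.cW.ge)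
    rw [k.τc, k.cW] at h1
    exact h1.trans le_sup_left
  · obtain ⟨z, hz, hz1⟩ := SwapV.Lv.Z_ne h l
    have hzc : z ∈ c := k.cW ▸ SwapV.Lv.Z_W h l hz
    have h1 : τ * z * τ⁻¹ ∈ ZL (S : Subgroup G) n := hle ⟨z, hz, rfl⟩
    have h2 : τ * z * τ⁻¹ ∈ W l := by
      have h3 : τ * z * τ⁻¹ ∈ cj τ c := ⟨z, hzc, rfl⟩
      rwa [k.τc, k.cW] at h3
    have h3 : τ * z * τ⁻¹ ∈ Z l :=
      (h.fr.blk l).toMd.mem_Z_iff.2 ⟨h2, ((h.fr.mem_ZJ _).1 h1).2⟩
    have h4 : τ * z * τ⁻¹ ≠ 1 := fun e => hz1 (conj_eq_one_iff.1 e)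
    exact hz1 (k.τ1 z hzc (SwapV.Lv.Z_eq h h3 hz h4 hz1))
  · refine k.RK.trans (sup_le ?_ (le_centralizer_iff.1 (k.ZK m hm)))
    exact fun b hb => mem_centralizer_iff.2 fun z hz => ((h.fr.blk m).cZ b hb z hz).symm

/-- **The universal frame with weak UNI at stage `n`.** -/
theorem exists_bw_lev [Nonempty ι] (h : LnV S V Q n L W Z C A) (h3 : ∀ i j : ι, ∃ l, l ≠ i ∧ l ≠ j) :
    ∃ z : ι → G, (∀ i x, x ∈ Z i ↔ x = 1 ∨ x = z i) ∧
      Bw (BL (S : Subgroup G) n) (lev (S : Subgroup G) (n + 1)) (ZL (S : Subgroup G) n) L W z := by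
  have lb := SwapL.lb S n
  have fr := h.fr
  have eqB : BL (S : Subgroup G) n =
      (S : Subgroup G) ⊓ centralizer (zc (lev (S : Subgroup G) (n + 1)) : Set G) := rfl
  refine of_fgW h.char2 lb (Lev.Main.toFg fr) (fun g hg i => ?_) (fun R _ hR hT hc hK hZ => ?_) h3
  · obtain ⟨j, hj, -⟩ := (fr.norm_of hg (NO3S.Level.normalizer_le_zc _
      (Lev.Wc.norm_B_Lev (lev_isLev (S : Subgroup G) n) eqB hg))).2 i
    exact ⟨j, hj⟩
  · by_cases hn : lev (S : Subgroup G) n ≤ o2 R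
    · obtain ⟨L', V', h1, ⟨h2, h3⟩, h4⟩ := LevB.exists_fblk S (n := n) hT le_rfl hR hc hn hK hZ
      obtain ⟨-, -, i, -, -, -, -, h5⟩ := TC.UniLev.uni_all S rfl eqB fr ⟨h2, h3⟩
      exact Or.inl ⟨i, h4.trans ((sup_comm _ _).le.trans (sup_le_sup_right (h5 rfl).2 _))⟩
    · exact Or.inr (weakPar_of h (fun i => (h3 i i).imp fun l hl => hl.1) hR hT hc hn hZ)

end Cfsg.Agent.Omega.EDel.BxW
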