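import Cfsg.Agent.Omega.EDel.BxW.Base

/-!
# The universal frame over `B` with WEAK UNI (helper165 #26684; port of `Bx/Par.lean`)

* `Bw.parY` : a `B`-minimal `R ≤ Y_j` is in `D` or `W_j# ⊆ z_j ^ R`;
* `Yp` : `Y'_j = ⟨D, N_(Y_j)(W_j ZJ)⟩`, `Bw.L_le_Yp`, `Bw.D_le_Yp`, `Bw.Yp_le`;
* **`Bw.genW`** (QP') : `K ≤ Y_j`, `Y_j ≤ N(K)`, `K ≰ C(N_j)` gives `Y'_j ≤ K D`;
* `Bw.W_le_N`, `Bw.Q_eq` : `O₂(Y_j) = C_O(N_j)`, `Bw.eab_N`, `Bw.N_comm`, `Bw.no` : (NO) for `Y_j` on `N_j`;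
* **`Bw.conjW`** : `N_G(B)` permutes `z`, `Y`, `N`, `Y'`;
* `Bw.nlp` : nonlocality of the `Y'_j`.
-/

set_option autoImplicit false
set_option linter.unusedSectionVars false

namespace Cfsg.Agent.Omega.EDel.BxW

open Subgroup Cfsg Cfsg.Agent.ZN.ChoiceBase
open Cfsg.Agent.ZN (zc zl o2)
open Cfsg.Agent.ZN.ChoiceSit (Syl o2_le_syl)
open Cfsg.Agent.Omega.NO3S.EThree.ExactA (eab_mono eab_sup eab_iff)
open Cfsg.Agent.Omega.EK3 (CT mem_CT CT_mono ET ZJ_le_ET CT_norm_ET V_le_ET CT_compl_le CT_compl_le' Yc mem_Yc Nc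
  Y_norm_V Y_norm_N)
open Cfsg.Agent.Omega.EK3.Rank (NoOn)
open Cfsg.Agent.MinSimple.MinParabolic (IsMinPar le_of_forall)
open Cfsg.Agent.MinSimple.VModule (zc_le normalizer_le_normalizer_zc le_normalizer_o2 o2_isPGroup le_o2 o2_le
  le_centralizer_zc)
open scoped Pointwise

universe u

variable {G : Type u} [Group G]

/-- a nontrivial element of a four-group -/
theorem eq_of_four [Finite G] {W : Subgroup G} (h4 : Nat.card W = 4) (hsq : ∀ x ∈ W, x ^ 2 = 1) {a b x : G} (ha : a ∈ W)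
    (ha1 : a ≠ 1) (hb : b ∈ W) (hb1 : b ≠ 1) (hab : a ≠ b) (hx : x ∈ W) (hx1 : x ≠ 1) : x = a ∨ x = b ∨ x = a * b :=
  NO3S.eq_of_card_four h4 hsq ha ha1 hb hb1 hab hx hx1

/-- `N_j` is the smallest `Y_j`-invariant subgroup containing `z j` -/
theorem N_le_of {ι : Type} {z : ι → G} {j : ι} {U : Subgroup G} (hz : z j ∈ U)
    (hU : Yc z j ≤ normalizer (U : Set G)) : Nc z j ≤ U := by
  refine NoFF.Basic.V_le fun g hg => ?_
  rw [← NOThreeL.Pair.conj_eq_of_mem (hU hg)]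
  exact NoFF.Basic.conj_le_iff.2 (by rw [zpowers_le]; exact hz)

/-- `Y'_j = ⟨D, N_(Y_j)(W_j ZJ)⟩` -/
def Yp {ι : Type} (ZJ : Subgroup G) (W : ι → Subgroup G) (z : ι → G) (j : ι) : Subgroup G :=
  centralizer (ZJ : Set G) ⊔ (Yc z j ⊓ normalizer ((W j ⊔ ZJ : Subgroup G) : Set G))

theorem isMinPar_cj {T P : Subgroup G} (g : G) (h : IsMinPar T P) : IsMinPar (cj g T) (cj g P) where
  le := cj_mono g h.le
  not_le := by
    intro h1
    apply h.not_le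
    have h2 := cj_mono g⁻¹ h1
    rwa [cj_inv_cj, cj_normalizer, cj_inv_cj] at h2
  exists_max := by
    obtain ⟨N, hN, hmax⟩ := h.exists_max
    refine ⟨cj g N, lt_of_le_of_ne (cj_mono g hN.le) fun e => hN.ne ?_, fun K hK hKP => ?_⟩
    · rw [← cj_inv_cj g N, e, cj_inv_cj]
    · have h1 : K = cj g (cj g⁻¹ K) := (cj_cj_inv g K).symm
      rw [h1]
      refine cj_mono g (hmax _ ?_ (lt_of_le_of_ne ?_ fun e => hKP.ne ?_))
      · have h2 := cj_mono g⁻¹ hK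
        rwa [cj_inv_cj] at h2
      · have h2 := cj_mono g⁻¹ hKP.le
        rwa [cj_inv_cj] at h2
      · rw [h1, e]

namespace Bw

variable [Finite G] {B J ZJ : Subgroup G} {ι : Type} {L W : ι → Subgroup G} {z : ι → G} (h : Bw B J ZJ L W z)
include h

/-- `R` over `B` in `C_T` has characteristic 2 -/
theorem char2_of {T : Set ι} (hT : T.Nonempty) {R : Subgroup G} (hB : B ≤ R) (hR : R ≤ CT z T) :
    R ⊓ centralizer (o2 R : Set G) ≤ o2 R := by
  have h1 : o2 (CT z T) ≤ o2 R :=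
    le_o2 ((h.o2_CT_le_B T).trans hB) (o2_isPGroup _) (hR.trans (le_normalizer_o2 _))
  rintro x ⟨hx, hxc⟩
  exact h1 (h.char2_CT hT ⟨hR hx, centralizer_le (by exact_mod_cast h1) hxc⟩)

/-- the members of `𝒫(X, B)` which move `ZJ`, if `N_X(B) ≤ D` and `B` is Sylow in `X` -/
theorem parX {T : Set ι} (hT : T.Nonempty) (hs : Syl B (CT z T))
    (hN : CT z T ⊓ normalizer (B : Set G) ≤ centralizer (ZJ : Set G)) {R : Subgroup G} (hR : IsMinPar B R)
    (hRX : R ≤ CT z T) (hD : ¬ R ≤ centralizer (ZJ : Set G)) :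
    ∃ i, (∃ r ∈ R, r * z i * r⁻¹ ∈ W i ⊔ ZJ ∧ r * z i * r⁻¹ ∉ ZJ) ∧
      ∀ l, l ≠ i → R ≤ centralizer ({z l} : Set G) := by
  obtain ⟨l, hl⟩ := hT
  refine h.par R ⟨l, fun x hx => mem_centralizer_singleton_iff.2 (mem_CT.1 (hRX hx) l hl)⟩ hR
    ⟨hR.le, h.two, fun Q hQ h2 hBQ => hs.2.2 Q (hQ.trans hRX) h2 hBQ⟩ (h.char2_of ⟨l, hl⟩ hR.le hRX) ?_ hD
  intro hJ
  apply hD
  have h1 : R ≤ normalizer (ZJ : Set G) := (le_normalizer_o2 R).trans (h.nJ _ (o2_isPGroup R) hJ)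
  intro r hr
  obtain ⟨d, hd, n, hn, rfl⟩ := h.frattini (h1 hr)
  have h2 : n ∈ CT z T := by
    have := mul_mem (inv_mem (h.D_le_CT T hd)) (hRX hr)
    rwa [inv_mul_cancel_left] at this
  exact mul_mem hd (hN ⟨h2, hn⟩)

/-- `B` induces the transvection with centre `z j` on `W j` -/
theorem swap {j : ι} {x : G} (hx : x ∈ W j) (hx1 : x ≠ 1) (hxz : x ≠ z j) : ∃ b ∈ B, b * x * b⁻¹ = z j * x := by
  by_contra hcon
  push Not at hcon
  have h1 : x ∈ ZJ := by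
    refine h.WzB j x hx fun b hb => ?_
    rcases h.BW j b hb x hx with e | e
    · exact mul_inv_eq_iff_eq_mul.1 (mul_inv_eq_one.1 e)
    · exact absurd (mul_inv_eq_iff_eq_mul.1 e) (hcon b hb)
  rcases h.WJ j x hx h1 with e | e
  · exact hx1 e
  · exact hxz e

/-- a subgroup over `B` which normalises `W j` and moves `z j` is transitive on `W j - 1` -/
theorem trans_of {j : ι} {R : Subgroup G} (hB : B ≤ R) (hN : R ≤ normalizer (W j : Set G))
    (hm : ¬ R ≤ centralizer ({z j} : Set G)) {x : G} (hx : x ∈ W j) (hx1 : x ≠ 1) :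
    ∃ r ∈ R, r * z j * r⁻¹ = x := by
  by_cases hxz : x = z j
  · exact ⟨1, one_mem _, by rw [hxz]; group⟩
  obtain ⟨r, hr, hrz⟩ : ∃ r ∈ R, r * z j * r⁻¹ ≠ z j := by
    by_contra hcon
    push Not at hcon
    exact hm fun r hr => mem_centralizer_singleton_iff.2 (mul_inv_eq_iff_eq_mul.1 (hcon r hr))
  have h1 : r * z j * r⁻¹ ∈ W j := (mem_normalizer_iff.1 (hN hr) _).1 (h.zW j)
  have h2 : r * z j * r⁻¹ ≠ 1 := fun e => h.ne j (conj_eq_one_iff.1 e)
  by_cases hrx : r * z j * r⁻¹ = x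
  · exact ⟨r, hr, hrx⟩
  obtain ⟨b, hb, hbe⟩ := h.swap h1 h2 hrz
  refine ⟨b * r, mul_mem (hB hb) hr, ?_⟩
  have e : b * r * z j * (b * r)⁻¹ = b * (r * z j * r⁻¹) * b⁻¹ := by group
  rw [e, hbe]
  rcases eq_of_four (h.cardW j) (h.sqW j) (h.zW j) (h.ne j) h1 h2 (Ne.symm hrz) hx hx1 with h3 | h3 | h3
  · exact absurd h3 hxz
  · exact absurd h3.symm hrx
  · exact h3.symm

/-- `ZJ = ⟨z_j⟩ C` with `C` central in `Y_j` -/
theorem decY (j : ι) : ∀ x ∈ ZJ, ∃ c ∈ ZJ, (∀ y ∈ Yc z j, y * c = c * y) ∧ (x = c ∨ x = z j * c) := by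
  intro x hx
  have hx' := h.gen hx
  clear hx
  induction hx' using closure_induction with
  | mem x hx =>
    obtain ⟨l, rfl⟩ := hx
    by_cases hl : l = j
    · exact ⟨1, one_mem _, fun y _ => by rw [mul_one, one_mul], Or.inr (by rw [hl, mul_one])⟩
    · exact ⟨z l, h.zJ l, fun y hy => mem_Yc.1 hy l hl, Or.inl rfl⟩
  | one => exact ⟨1, one_mem _, fun y _ => by rw [mul_one, one_mul], Or.inl rfl⟩
  | mul x y _ _ hx hy =>
    obtain ⟨c, hc, hcY, e⟩ := hx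
    obtain ⟨d, hd, hdY, e'⟩ := hy
    have hcom : ∀ v ∈ Yc z j, v * (c * d) = c * d * v := fun v hv => by
      rw [← mul_assoc, hcY v hv, mul_assoc, hdY v hv, mul_assoc]
    refine ⟨c * d, mul_mem hc hd, hcom, ?_⟩
    have hz : z j * z j = 1 := by rw [← pow_two]; exact h.z_sq j
    have hcz : c * z j = z j * c := h.JJ hc (h.zJ j)
    rcases e with e | e <;> rcases e' with e' | e'
    · left; rw [e, e']
    · right
      rw [e, e', ← mul_assoc, hcz, mul_assoc]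
    · right
      rw [e, e', mul_assoc]
    · left
      calc x * y = z j * (c * z j) * d := by rw [e, e']; group
        _ = (z j * z j) * (c * d) := by rw [hcz]; group
        _ = c * d := by rw [hz, one_mul]
  | inv x _ hx =>
    obtain ⟨c, hc, hcY, e⟩ := hx
    have hcom : ∀ v ∈ Yc z j, v * c⁻¹ = c⁻¹ * v := fun v hv => by
      rw [eq_inv_mul_iff_mul_eq, ← mul_assoc, ← hcY v hv, mul_inv_cancel_right]
    refine ⟨c⁻¹, inv_mem hc, hcom, ?_⟩
    rcases e with e | e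
    · left; rw [e]
    · right
      have hz : (z j)⁻¹ = z j := inv_eq_of_mul_eq_one_left (by rw [← pow_two]; exact h.z_sq j)
      have hcz : c⁻¹ * z j = z j * c⁻¹ := h.JJ (inv_mem hc) (h.zJ j)
      rw [e, mul_inv_rev, hz, hcz]

theorem L_le_Y (j : ι) : L j ≤ Yc z j := fun x hx =>
  mem_Yc.2 fun l hl => mem_centralizer_singleton_iff.1 (h.LY j l hl hx)

theorem B_norm_W (j : ι) : B ≤ normalizer (W j : Set G) := by
  have key : ∀ b ∈ B, ∀ x ∈ W j, b * x * b⁻¹ ∈ W j := by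
    intro b hb x hx
    rcases h.BW j b hb x hx with e | e
    · rw [mul_inv_eq_one.1 e]; exact hx
    · rw [mul_inv_eq_iff_eq_mul.1 e]; exact mul_mem (h.zW j) hx
  intro b hb
  rw [mem_normalizer_iff]
  intro x
  refine ⟨key b hb x, fun hx => ?_⟩
  have h1 := key b⁻¹ (inv_mem hb) _ hx
  have e : b⁻¹ * (b * x * b⁻¹) * b⁻¹⁻¹ = x := by group
  rwa [e] at h1

/-- `⟨L_j, B⟩` is transitive on `W_j - 1` -/
theorem trL (j : ι) : ∀ w ∈ W j, w ≠ 1 → ∃ l ∈ Yc z j, l * w * l⁻¹ = z j := by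
  intro w hw hw1
  obtain ⟨r, hr, e⟩ := h.trans_of (R := L j ⊔ B) le_sup_right (sup_le (h.LW j) (h.B_norm_W j))
    (fun hc => h.Lmv j (le_sup_left.trans hc)) hw hw1
  refine ⟨r⁻¹, inv_mem ((sup_le (h.L_le_Y j) (h.B_le j) : L j ⊔ B ≤ Yc z j) hr), ?_⟩
  rw [← e]
  group

/-- **(a)** -/
theorem wsubY {j : ι} {R : Subgroup G} (hB : B ≤ R) (hRY : R ≤ Yc z j) {r : G} (hr : r ∈ R)
    (h1 : r * z j * r⁻¹ ∈ W j ⊔ ZJ) (h2 : r * z j * r⁻¹ ∉ ZJ) : ∀ w ∈ W j, w ≠ 1 → ∃ s ∈ R, s * z j * s⁻¹ = w :=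
  wsub (h.syl_Y j) (fun _ hx => (h.mem_J hx).2.2) (h.zJ j) (fun n hn => h.D_comm (h.norm_Y j hn) j) (h.decY j) (h.zW j) (h.WB j) (h.sqW j)
    (h.trL j) (h.cardW j) (h.WzB j) (h.BW j) hB hRY hr h1 h2

/-- **(a')** -/
theorem nYD {j : ι} {R : Subgroup G} (hB : B ≤ R) (hRY : R ≤ Yc z j) {r : G} (hr : r ∈ R)
    (h1 : r * z j * r⁻¹ ∈ W j ⊔ ZJ) (h2 : r * z j * r⁻¹ ∉ ZJ) {g : G} (hg : g ∈ Yc z j)
    (hgW : g * z j * g⁻¹ ∈ W j ⊔ ZJ) : ∃ s ∈ R, ∃ d ∈ centralizer (ZJ : Set G), g = s * d := by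
  obtain ⟨s, hs, d, hd, hdz, e⟩ := nY (h.syl_Y j) (fun _ hx => (h.mem_J hx).2.2) (h.zJ j) (fun n hn => h.D_comm (h.norm_Y j hn) j) (h.decY j)
    (h.zW j) (h.WB j) (h.sqW j) (h.trL j) (h.cardW j) (h.WzB j) (h.BW j) hB hRY hr h1 h2 hg hgW
  refine ⟨s, hs, d, ?_, e⟩
  rw [← h.stab j]
  exact mem_inf.2 ⟨hd, mem_centralizer_singleton_iff.2 hdz⟩

/-- **the minimal parabolics of `Y_j` over `B`** -/
theorem parY {j : ι} {R : Subgroup G} (hR : IsMinPar B R) (hRY : R ≤ Yc z j) :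
    R ≤ centralizer (ZJ : Set G) ∨ ((∃ r ∈ R, r * z j * r⁻¹ ∈ W j ⊔ ZJ ∧ r * z j * r⁻¹ ∉ ZJ) ∧
      ¬ R ≤ centralizer ({z j} : Set G) ∧ ∀ x ∈ W j, x ≠ 1 → ∃ r ∈ R, r * z j * r⁻¹ = x) := by
  by_cases hD : R ≤ centralizer (ZJ : Set G)
  · exact Or.inl hD
  right
  obtain ⟨i, hi, hl⟩ := h.parX (compl_one_ne h.three j) (h.syl_Y j) (h.norm_Y j) hR hRY hD
  have hij : i = j := by
    by_contra hne
    apply hD
    intro x hx
    refine h.mem_D fun l => ?_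
    by_cases hlj : l = j
    · exact mem_centralizer_singleton_iff.1 (hl l (by rw [hlj]; exact Ne.symm hne) hx)
    · exact mem_Yc.1 (hRY hx) l hlj
  subst hij
  have hm : ¬ R ≤ centralizer ({z i} : Set G) := fun hc => hD (by
    rw [← h.stab i]; exact le_inf hRY hc)
  refine ⟨hi, hm, ?_⟩
  obtain ⟨r, hr, h1, h2⟩ := hi
  exact h.wsubY hR.le hRY hr h1 h2

omit h [Finite G] in
theorem D_le_Yp (j : ι) : centralizer (ZJ : Set G) ≤ Yp ZJ W z j := le_sup_left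

theorem Yp_le (j : ι) : Yp ZJ W z j ≤ Yc z j := sup_le (h.D_le j) inf_le_left

/-- `L_j` normalises `W_j ZJ` -/
theorem L_norm (j : ι) : L j ≤ normalizer ((W j ⊔ ZJ : Subgroup G) : Set G) := by
  have key : ∀ x ∈ L j, cj x (W j ⊔ ZJ) ≤ W j ⊔ ZJ := by
    intro x hx
    rw [cj, Subgroup.map_sup]
    refine sup_le ((cj_eq_of_mem_normalizer (h.LW j hx)).le.trans le_sup_left) ?_
    refine (cj_mono x h.gen).trans ?_
    rw [cj, MonoidHom.map_closure, closure_le]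
    rintro _ ⟨_, ⟨l, rfl⟩, rfl⟩
    change x * z l * x⁻¹ ∈ (W j ⊔ ZJ : Subgroup G)
    by_cases hl : l = j
    · subst hl
      exact mem_sup_left ((mem_normalizer_iff.1 (h.LW l hx) _).1 (h.zW l))
    · rw [mem_Yc.1 (h.L_le_Y j hx) l hl, mul_inv_cancel_right]
      exact mem_sup_right (h.zJ l)
  intro x hx
  rw [mem_normalizer_iff_cj]
  apply le_antisymm (key x hx)
  have h1 := cj_mono x (key x⁻¹ (inv_mem hx))
  rwa [cj_cj_inv] at h1

theorem L_le_Yp (j : ι) : L j ≤ Yp ZJ W z j := (le_inf (h.L_le_Y j) (h.L_norm j)).trans le_sup_right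

/-- **(QP')** -/
theorem genW {j : ι} {K : Subgroup G} (hK : K ≤ Yc z j) (hn : Yc z j ≤ normalizer (K : Set G))
    (hc : ¬ K ≤ centralizer (Nc z j : Set G)) : Yp ZJ W z j ≤ K ⊔ centralizer (ZJ : Set G) := by
  have hKD : ¬ K ≤ centralizer (ZJ : Set G) := by
    intro hKD
    apply hc
    rw [le_centralizer_iff]
    refine N_le_of ?_ ?_
    · rw [mem_centralizer_iff]
      exact fun k hk => h.D_comm (hKD hk) j
    · intro y hy
      rw [mem_normalizer_iff_cj, cj_centralizer, cj_eq_of_mem_normalizer (hn hy)]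
  have hBK : B ≤ K ⊔ B := le_sup_right
  have hKY : K ⊔ B ≤ Yc z j := sup_le hK (h.B_le j)
  obtain ⟨R', hR', hR'K, hR'D⟩ : ∃ R', IsMinPar B R' ∧ R' ≤ K ⊔ B ∧ ¬ R' ≤ centralizer (ZJ : Set G) := by
    by_contra hcon
    push Not at hcon
    apply hKD
    have h1 : K ⊔ B ≤ centralizer (ZJ : Set G) :=
      le_of_forall hBK ((inf_le_inf_right _ hKY).trans (h.norm_Y j)) fun R hR hRK => hcon R hR hRK
    exact le_sup_left.trans h1
  rcases h.parY hR' (hR'K.trans hKY) with h1 | ⟨⟨r, hr, h1, h2⟩, -, -⟩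
  · exact absurd h1 hR'D
  refine sup_le le_sup_right ?_
  rintro g ⟨hg, hgW⟩
  have h3 : g * z j * g⁻¹ ∈ (W j ⊔ ZJ : Subgroup G) :=
    (mem_normalizer_iff.1 hgW _).1 (mem_sup_left (h.zW j))
  obtain ⟨s, hs, d, hd, e⟩ := h.nYD hR'.le (hR'K.trans hKY) hr h1 h2 hg h3
  rw [e]
  exact mul_mem ((sup_le_sup_left h.BD K) (hR'K hs)) ((le_sup_right : centralizer (ZJ : Set G) ≤ K ⊔ _) hd)

/-! ### `N_j` -/

/-- `N_j ≤ E_T` for `j ∉ T` -/
theorem N_le_ET {T : Set ι} {j : ι} (hj : j ∉ T) : Nc z j ≤ ET ZJ z T :=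
  V_le_ET (zpowers_le.2 (h.zJ j)) (CT_mono fun l hl => by
    rw [Set.mem_compl_iff, Set.mem_singleton_iff]
    exact fun e => hj (e ▸ hl))

theorem eab_N (j : ι) : IsElementaryAbelian 2 (Nc z j) :=
  eab_mono (h.eab_ET (compl_one_ne h.three j)) (h.N_le_ET (by simp))

theorem N_le_O (j : ι) : Nc z j ≤ o2 (centralizer (ZJ : Set G)) :=
  (h.N_le_ET (T := {j}ᶜ) (by simp)).trans (h.ET_le_O (compl_one_ne h.three j))

theorem N_comm (i j : ι) : Nc z i ≤ centralizer (Nc z j : Set G) := by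
  have he := (eab_iff.1 (h.eab_ET (compl_two_ne h.three i j))).1
  intro x hx
  rw [mem_centralizer_iff]
  intro y hy
  exact mem_centralizer_iff.1 (he (h.N_le_ET (by simp) hx)) y (h.N_le_ET (by simp) hy)

theorem o2Y_le_B (j : ι) : o2 (Yc z j) ≤ B := o2_le_syl (h.syl_Y j)

theorem O_le_B : o2 (centralizer (ZJ : Set G)) ≤ B := o2_le_syl h.syl

theorem O_le_Y (j : ι) : o2 (centralizer (ZJ : Set G)) ≤ Yc z j := h.O_le_B.trans (h.B_le j)

theorem o2_le_O (j : ι) : o2 (Yc z j) ≤ o2 (centralizer (ZJ : Set G)) :=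
  le_o2 ((h.o2Y_le_B j).trans h.BD) (o2_isPGroup _) ((h.D_le j).trans (le_normalizer_o2 _))

theorem N_le_zc (j : ι) : Nc z j ≤ zc (o2 (Yc z j)) :=
  (h.N_le_ET (T := {j}ᶜ) (by simp)).trans (h.ET_le_zc (compl_one_ne h.three j))

theorem o2_le_cent (j : ι) : o2 (Yc z j) ≤ centralizer (Nc z j : Set G) :=
  (le_centralizer_zc _).trans (centralizer_le (h.N_le_zc j))

/-- `C_{Y_j}(N_j) ≤ D` -/
theorem cent_le (j : ι) : Yc z j ⊓ centralizer (Nc z j : Set G) ≤ centralizer (ZJ : Set G) := by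
  rw [← h.stab j]
  exact le_inf inf_le_left (inf_le_right.trans (centralizer_le (Set.singleton_subset_iff.2 (h.mem_N j))))

omit h [Finite G] in
theorem Y_norm_cent (j : ι) :
    Yc z j ≤ normalizer ((Yc z j ⊓ centralizer (Nc z j : Set G) : Subgroup G) : Set G) := by
  intro g hg
  rw [mem_normalizer_iff_cj, cj_inf, cj_centralizer, cj_eq_of_mem_normalizer (Y_norm_N j hg),
    cj_eq_of_mem_normalizer (Subgroup.le_normalizer hg)]

/-- **`O₂(Y_j) = C_O(N_j)`** -/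
theorem Q_eq (j : ι) : o2 (Yc z j) = o2 (centralizer (ZJ : Set G)) ⊓ centralizer (Nc z j : Set G) := by
  apply le_antisymm
  · exact le_inf (h.o2_le_O j) (h.o2_le_cent j)
  · set X := Yc z j ⊓ centralizer (Nc z j : Set G) with hX
    have h1 : o2 (centralizer (ZJ : Set G)) ⊓ centralizer (Nc z j : Set G) ≤ o2 X := by
      refine le_o2 (le_inf (inf_le_left.trans (h.O_le_Y j)) inf_le_right) ((o2_isPGroup _).to_le inf_le_left) ?_
      intro x hx
      have hxD : x ∈ normalizer (o2 (centralizer (ZJ : Set G)) : Set G) := le_normalizer_o2 _ (h.cent_le j hx)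
      have hxN : x ∈ normalizer (Nc z j : Set G) := Y_norm_N j hx.1
      rw [mem_normalizer_iff_cj, cj_inf, cj_centralizer, cj_eq_of_mem_normalizer hxD,
        cj_eq_of_mem_normalizer hxN]
    refine h1.trans (le_o2 ((o2_le _).trans inf_le_left) (o2_isPGroup _) ?_)
    refine (Y_norm_cent j).trans ?_
    exact normalizer_le_of_cj (F := o2) (fun g T => Cfsg.Agent.ZN.ChoiceSit.o2_cj g T) X

/-- `W j ≤ N_j` -/
theorem W_le_N (j : ι) : W j ≤ Nc z j := by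
  obtain ⟨ρ, hρ, hρW, hρz⟩ := h.rho j
  have hρY : ρ ∈ Yc z j := mem_Yc.2 fun l hl => hρ l hl
  have h1 : ρ * z j * ρ⁻¹ ∈ Nc z j := (mem_normalizer_iff.1 (Y_norm_N j hρY) _).1 (h.mem_N j)
  have h2 : ρ * z j * ρ⁻¹ ≠ 1 := fun e => h.ne j (conj_eq_one_iff.1 e)
  intro x hx
  by_cases hx1 : x = 1
  · rw [hx1]; exact one_mem _
  rcases eq_of_four (h.cardW j) (h.sqW j) (h.zW j) (h.ne j) hρW h2 (Ne.symm hρz) hx hx1 with e | e | e
  · rw [e]; exact h.mem_N j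
  · rw [e]; exact h1
  · rw [e]; exact mul_mem (h.mem_N j) h1

/-- `ZJ^y ≤ N_i ZJ` for `y ∈ Y_i` -/
theorem ZN (i : ι) {y : G} (hy : y ∈ Yc z i) : cj y ZJ ≤ Nc z i ⊔ ZJ := by
  refine (cj_mono y h.gen).trans ?_
  rw [cj, MonoidHom.map_closure, closure_le]
  rintro _ ⟨_, ⟨l, rfl⟩, rfl⟩
  change y * z l * y⁻¹ ∈ (Nc z i ⊔ ZJ : Subgroup G)
  by_cases hl : l = i
  · subst hl
    exact mem_sup_left ((mem_normalizer_iff.1 (Y_norm_N l hy) _).1 (h.mem_N l))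
  · rw [mem_Yc.1 hy l hl, mul_inv_cancel_right]
    exact mem_sup_right (h.zJ l)

/-! ### (NO) -/

/-- the stabiliser of the coset `z j U`, `U` a submodule of `N_j` without `z j`, is in `D` -/
theorem stab_le {j : ι} {U : Subgroup G} (hY : Yc z j ≤ normalizer (U : Set G)) (hv : z j ∉ U) :
    ∀ g ∈ Yc z j, g * z j * g⁻¹ * (z j)⁻¹ ∈ U → g ∈ centralizer (ZJ : Set G) := by
  let K' : Subgroup G :=
    { carrier := {g | g ∈ Yc z j ∧ g * z j * g⁻¹ * (z j)⁻¹ ∈ U}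
      one_mem' := ⟨one_mem _, by simp⟩
      mul_mem' := by
        rintro a b ⟨ha, ha'⟩ ⟨hb, hb'⟩
        refine ⟨mul_mem ha hb, ?_⟩
        have e : a * b * z j * (a * b)⁻¹ * (z j)⁻¹ =
            (a * (b * z j * b⁻¹ * (z j)⁻¹) * a⁻¹) * (a * z j * a⁻¹ * (z j)⁻¹) := by group
        rw [e]
        exact mul_mem ((mem_normalizer_iff.1 (hY ha) _).1 hb') ha'
      inv_mem' := by
        rintro a ⟨ha, ha'⟩
        refine ⟨inv_mem ha, ?_⟩
        have e : a⁻¹ * z j * a⁻¹⁻¹ * (z j)⁻¹ = a⁻¹ * (a * z j * a⁻¹ * (z j)⁻¹)⁻¹ * a⁻¹⁻¹ := by group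
        rw [e]
        exact (mem_normalizer_iff.1 (hY (inv_mem ha)) _).1 (inv_mem ha') }
  have hBK : B ≤ K' := fun t ht => ⟨h.B_le j ht, by
    rw [h.D_comm (h.BD ht) j, mul_inv_cancel_right, mul_inv_cancel]
    exact one_mem _⟩
  have hKY : K' ≤ Yc z j := fun k hk => hk.1
  suffices hs : K' ≤ centralizer (ZJ : Set G) from fun g hg hgY => hs ⟨hg, hgY⟩
  refine le_of_forall hBK ((inf_le_inf_right _ hKY).trans (h.norm_Y j)) ?_
  intro R hR hRK
  rcases h.parY hR (hRK.trans hKY) with hm | ⟨-, -, ht⟩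
  · exact hm
  exfalso
  have key : ∀ y ∈ W j, y ≠ 1 → y * (z j)⁻¹ ∈ U := by
    intro y hy hy1
    obtain ⟨r, hr, hry⟩ := ht y hy hy1
    have h1 := (hRK hr).2
    rwa [hry] at h1
  obtain ⟨ρ, -, hx, hxz⟩ := h.rho j
  set x := ρ * z j * ρ⁻¹ with hxdef
  have hx1 : x ≠ 1 := fun e => h.ne j (conj_eq_one_iff.1 e)
  have h1 := key x hx hx1
  have hzz : z j * z j = 1 := by rw [← pow_two]; exact h.z_sq j
  have hxz1 : x * z j ≠ 1 := by
    intro e
    apply hxz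
    have := eq_inv_of_mul_eq_one_left e
    rw [this, inv_eq_of_mul_eq_one_left hzz]
  have h2 := key (x * z j) (mul_mem hx (h.zW j)) hxz1
  rw [mul_inv_cancel_right] at h2
  apply hv
  have h3 := mul_mem (inv_mem h1) h2
  have e : (x * (z j)⁻¹)⁻¹ * x = z j := by group
  rwa [e] at h3

/-- **(NO)** : `|A : C_A(N_j)| ≤ |N_j : C_{N_j}(A)|` for `A ≤ O₂(D)` elementary abelian -/
theorem no (hML : ML.Final.MLK.{u, u}) {j : ι} (kg : IsKGroup (Yc z j)) :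
    NoOn (o2 (centralizer (ZJ : Set G))) (Nc z j) := by
  intro A hAe hA
  have hA2 : ∀ a ∈ A, a ^ 2 = 1 := (eab_iff.1 hAe).2
  have hN1 : ∀ g : G, g ∈ normalizer ((⊥ : Subgroup G) : Set G) := fun g => by
    rw [mem_normalizer_iff]
    intro x
    rw [mem_bot, mem_bot, conj_eq_one_iff]
  have hb : ∀ x y : G, x * y * x⁻¹ * y⁻¹ ∈ (⊥ : Subgroup G) ↔ x * y = y * x := fun x y => by
    rw [mem_bot, mul_inv_eq_one, mul_inv_eq_iff_eq_mul]
  have hsqN := (eab_iff.1 (h.eab_N j)).2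
  have hmain : (A ⊓ centralizer (Nc z j : Set G)).relIndex A ≤
      (Nc z j ⊓ centralizer (A : Set G)).relIndex (Nc z j) := by
    refine hML.grp (C := Yc z j) (W := Nc z j) (Y := ⊥) (T := B) (Q := o2 (centralizer (ZJ : Set G))) (A := A)
      (w := z j) kg ?_ (KA := A ⊓ centralizer (Nc z j : Set G))
      (CW := Nc z j ⊓ centralizer (A : Set G)) ?_ ?_
    · refine ⟨Y_norm_N j, fun g _ => hN1 g, bot_le, fun g _ => hN1 g, ?_, h.mem_N j, ?_, h.B_le j,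
        h.two, Cfsg.Agent.ZN.ChoiceSit.syl_not_dvd (h.syl_Y j), ?_, h.O_le_Y j, o2_isPGroup _, ?_, ?_, hA, ?_⟩
      · intro x hx
        rw [mem_bot, ← pow_two]
        exact hsqN x hx
      · exact fun U hU _ hYU => N_le_of hU hYU
      · exact fun t ht => (hb _ _).2 (h.D_comm (h.BD ht) j)
      · exact fun t ht => (hb _ _).2 (h.D_comm (o2_le _ ht) j)
      · intro g hg hgz q hq
        have h1 : g ∈ centralizer (ZJ : Set G) := by
          rw [← h.stab j]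
          exact ⟨hg, mem_centralizer_singleton_iff.2 ((hb _ _).1 hgz)⟩
        exact (mem_normalizer_iff.1 (le_normalizer_o2 _ h1) q).1 hq
      · intro a ha x _
        have h1 : a * a = 1 := by rw [← pow_two]; exact hA2 a ha
        have e : a * (a * x * a⁻¹) * a⁻¹ * x⁻¹ = (a * a) * x * (a * a)⁻¹ * x⁻¹ := by group
        rw [e, h1, mem_bot]
        simp
    · intro a
      refine and_congr_right fun _ => ?_
      exact ⟨fun h1 x hx => (hb _ _).2 (mem_centralizer_iff.1 h1 x hx).symm,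
        fun h1 => mem_centralizer_iff.2 fun x hx => ((hb _ _).1 (h1 x hx)).symm⟩
    · intro x
      refine and_congr_right fun _ => ?_
      exact ⟨fun h1 a ha => (hb _ _).2 (mem_centralizer_iff.1 h1 a ha),
        fun h1 => mem_centralizer_iff.2 fun a ha => (hb _ _).1 (h1 a ha)⟩
  rwa [inf_relIndex_left, inf_relIndex_left] at hmain

/-! ### `N_G(B)` -/

omit h [Finite G] in
/-- an element which permutes the `z i` permutes the `Y i`, `N i` -/
theorem conj_of [Finite ι] (hinj : Function.Injective z) {g : G} (hp : ∀ i, ∃ j, g * z i * g⁻¹ = z j) :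
    ∃ σ : Equiv.Perm ι, ∀ i, g * z i * g⁻¹ = z (σ i) ∧ cj g (Yc z i) = Yc z (σ i) ∧ cj g (Nc z i) = Nc z (σ i) := by
  choose f hf using hp
  have hfi : Function.Injective f := by
    intro i j e
    apply hinj
    have h1 := hf i
    rw [e, ← hf j] at h1
    exact mul_left_cancel (mul_right_cancel h1)
  let σ : Equiv.Perm ι := Equiv.ofBijective f (Finite.injective_iff_bijective.1 hfi)
  have hσ : ∀ i, g * z i * g⁻¹ = z (σ i) := hf
  have hY : ∀ i, cj g (Yc z i) = Yc z (σ i) := by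
    intro i
    ext x
    rw [mem_cj, mem_Yc, mem_Yc]
    constructor
    · intro h1 l hl
      obtain ⟨m, rfl⟩ := σ.surjective l
      have h2 := h1 m fun e => hl (by rw [e])
      rw [← hσ m]
      calc x * (g * z m * g⁻¹) = g * ((g⁻¹ * x * g) * z m) * g⁻¹ := by group
        _ = g * (z m * (g⁻¹ * x * g)) * g⁻¹ := by rw [h2]
        _ = g * z m * g⁻¹ * x := by group
    · intro h1 l hl
      have h2 := h1 (σ l) fun e => hl (σ.injective e)
      rw [← hσ l] at h2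
      calc g⁻¹ * x * g * z l = g⁻¹ * (x * (g * z l * g⁻¹)) * g := by group
        _ = g⁻¹ * (g * z l * g⁻¹ * x) * g := by rw [h2]
        _ = z l * (g⁻¹ * x * g) := by group
  have hmem : ∀ j, z j ∈ Nc z j := fun j => by
    have := NoFF.Basic.Z_le_V (Z := zpowers (z j)) (one_mem (Yc z j))
    rw [map_one, one_smul] at this
    exact this (mem_zpowers _)
  refine ⟨σ, fun i => ⟨hσ i, hY i, ?_⟩⟩
  have key : ∀ {g : G} {i j : ι}, g * z i * g⁻¹ = z j → cj g (Yc z i) = Yc z j → Nc z j ≤ cj g (Nc z i) := by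
    intro g i j h1 h2
    refine N_le_of (by rw [← h1]; exact ⟨z i, hmem i, rfl⟩) fun y hy => ?_
    rw [← h2, mem_cj] at hy
    have h3 := mem_normalizer_iff_cj.1 (Y_norm_N i hy)
    rw [mem_normalizer_iff_cj]
    have h4 : cj y (cj g (Nc z i)) = cj g (cj (g⁻¹ * y * g) (Nc z i)) := by
      rw [cj_cj, cj_cj]
      congr 1
      group
    rw [h4, h3]
  apply le_antisymm
  · have h1 : g⁻¹ * z (σ i) * g⁻¹⁻¹ = z i := by rw [← hσ i]; group
    have h2 : cj g⁻¹ (Yc z (σ i)) = Yc z i := by rw [← hY i, cj_inv_cj]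
    have h3 := cj_mono g (key h1 h2)
    rwa [cj_cj, mul_inv_cancel, cj_one] at h3
  · exact key (hσ i) (hY i)

/-- `W_k ≤ (W_j ZJ)^g` for `g ∈ N(B)`, `z_j^g = z_k` -/
theorem conj_W_le {g : G} (hg : g ∈ normalizer (B : Set G)) {j k : ι} (hjk : g * z j * g⁻¹ = z k)
    (hY : cj g (Yc z j) = Yc z k) : W k ⊔ ZJ ≤ cj g (W j ⊔ ZJ) := by
  have hgJ : cj g ZJ = ZJ := cj_eq_of_mem_normalizer (h.norm_ZJ hg)
  have hgB : cj g B = B := cj_eq_of_mem_normalizer hg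
  have hgD : cj g (centralizer (ZJ : Set G)) = centralizer (ZJ : Set G) := by rw [cj_centralizer, hgJ]
  set X := Yc z j ⊓ normalizer ((W j ⊔ ZJ : Subgroup G) : Set G) with hX
  have hBX : B ≤ X := by
    refine le_inf (h.B_le j) fun b hb => ?_
    rw [mem_normalizer_iff_cj, cj, Subgroup.map_sup]
    have e1 : Subgroup.map (MulAut.conj b).toMonoidHom (W j) = W j := cj_eq_of_mem_normalizer (h.B_norm_W j hb)
    have e2 : Subgroup.map (MulAut.conj b).toMonoidHom ZJ = ZJ :=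
      cj_eq_of_mem_normalizer (h.norm_ZJ (le_normalizer hb))
    rw [e1, e2]
  obtain ⟨R, hR, hRX, hRD⟩ : ∃ R, IsMinPar B R ∧ R ≤ X ∧ ¬ R ≤ centralizer (ZJ : Set G) := by
    by_contra hcon
    push Not at hcon
    have h1 : X ≤ centralizer (ZJ : Set G) :=
      le_of_forall hBX ((inf_le_inf_right _ inf_le_left).trans (h.norm_Y j)) fun R hR hRK => hcon R hR hRK
    refine h.Lmv j (((le_inf (h.L_le_Y j) (h.L_norm j)).trans h1).trans ?_)
    exact centralizer_le (Set.singleton_subset_iff.2 (h.zJ j))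
  have h1 : IsMinPar B (cj g R) := by
    have := isMinPar_cj g hR
    rwa [hgB] at this
  have h2 : cj g R ≤ Yc z k := by
    rw [← hY]
    exact cj_mono g (hRX.trans inf_le_left)
  rcases h.parY h1 h2 with h3 | ⟨-, -, h3⟩
  · refine absurd ?_ hRD
    have h4 := cj_mono g⁻¹ h3
    rwa [cj_inv_cj, ← hgD, cj_inv_cj] at h4
  refine sup_le ?_ ?_
  · intro x hx
    by_cases hx1 : x = 1
    · rw [hx1]; exact one_mem _
    obtain ⟨r, hr, e⟩ := h3 x hx hx1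
    rw [mem_cj] at hr ⊢
    have h5 := (mem_normalizer_iff.1 (hRX hr).2 (z j)).1 (mem_sup_left (h.zW j))
    have e2 : g⁻¹ * x * g = g⁻¹ * r * g * z j * (g⁻¹ * r * g)⁻¹ := by
      rw [← e, ← hjk]
      group
    rw [e2]
    exact h5
  · have h5 := cj_mono g (le_sup_right : ZJ ≤ W j ⊔ ZJ)
    rwa [hgJ] at h5

/-- **`N_G(B)` permutes the `z_i`, `Y_i`, `N_i`, `Y'_i`** -/
theorem conjW [Finite ι] {g : G} (hg : g ∈ normalizer (B : Set G)) :
    ∃ σ : Equiv.Perm ι, ∀ i, g * z i * g⁻¹ = z (σ i) ∧ cj g (Yc z i) = Yc z (σ i) ∧ cj g (Nc z i) = Nc z (σ i) ∧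
      cj g (Yp ZJ W z i) = Yp ZJ W z (σ i) := by
  obtain ⟨σ, hσ⟩ := conj_of h.inj (h.perm g hg)
  refine ⟨σ, fun i => ⟨(hσ i).1, (hσ i).2.1, (hσ i).2.2, ?_⟩⟩
  have hgJ : cj g ZJ = ZJ := cj_eq_of_mem_normalizer (h.norm_ZJ hg)
  have h1 := h.conj_W_le hg (hσ i).1 (hσ i).2.1
  have h2 : g⁻¹ * z (σ i) * g⁻¹⁻¹ = z i := by rw [← (hσ i).1]; group
  have h3 : cj g⁻¹ (Yc z (σ i)) = Yc z i := by rw [← (hσ i).2.1, cj_inv_cj]
  have h4 := cj_mono g (h.conj_W_le (inv_mem hg) h2 h3)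
  rw [cj_cj_inv] at h4
  have h5 : cj g (W i ⊔ ZJ) = W (σ i) ⊔ ZJ := le_antisymm h4 h1
  rw [Yp, Yp, ← h5, ← (hσ i).2.1]
  change Subgroup.map (MulAut.conj g).toMonoidHom _ = _
  rw [Subgroup.map_sup]
  have e1 : Subgroup.map (MulAut.conj g).toMonoidHom (centralizer (ZJ : Set G)) = centralizer (ZJ : Set G) := by
    change cj g _ = _
    rw [cj_centralizer, hgJ]
  have e2 : Subgroup.map (MulAut.conj g).toMonoidHom (Yc z i ⊓ normalizer ((W i ⊔ ZJ : Subgroup G) : Set G)) =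
      cj g (Yc z i) ⊓ normalizer ((cj g (W i ⊔ ZJ) : Subgroup G) : Set G) := by
    change cj g _ = _
    rw [cj_inf, cj_normalizer]
  rw [e1, e2]

/-- nonlocality of the `Y'_j` from that of `D` and the `L_j` -/
theorem nlp [Nonempty ι] (nl : ∀ R : Subgroup G, R ≠ ⊥ → IsPGroup 2 R →
    ¬ (centralizer (ZJ : Set G) ≤ normalizer (R : Set G) ∧ ∀ j, L j ≤ normalizer (R : Set G))) :
    ∀ R : Subgroup G, R ≠ ⊥ → IsPGroup 2 R → ¬ ∀ j, Yp ZJ W z j ≤ normalizer (R : Set G) := by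
  intro R hR h2 hj
  obtain ⟨i⟩ := ‹Nonempty ι›
  exact nl R hR h2 ⟨(D_le_Yp i).trans (hj i), fun j => (h.L_le_Yp j).trans (hj j)⟩

end Bw

end Cfsg.Agent.Omega.EDel.BxW
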